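import Cfsg.Agent.HNSub.Check

/-!
# A representation of degree 133 modulo 41 of the presented Harada–Norton group

The square of the generator `x` is not trivial in it.
-/

set_option autoImplicit false
set_option maxRecDepth 100000

namespace Cfsg.Agent.HNSub

open Cfsg.Agent.CosetCert Cfsg.Spor

/-- The relators of the presented Harada–Norton group. -/
abbrev hnRels : Set (FreeGroup HN.Gen) := coxRelators HN.edges ∪ {r | r ∈ HN.extra}

theorem mem_hnRels {r : FreeGroup HN.Gen} (hr : r ∈ hnRels) : r ∈ HN.extra := by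
  rcases hr with ⟨x, hx, -⟩ | hr
  · exact absurd hx (by simp [coxNodes, HN.edges])
  · exact hr

/-- The number of a generator. -/
def gnum : HN.Gen → Nat
  | .x => 0
  | .y => 1
  | .z => 2
  | .t => 3

theorem gnum_lt (g : HN.Gen) : gnum g < 4 := by cases g <;> decide

/-- The number of a letter. -/
def lcode (p : HN.Gen × Bool) : Nat := cond p.2 (gnum p.1) (gnum p.1 + 4)

theorem lits_eq : HN.extra.map (fun r => r.toWord.map lcode) = lits := by decide +kernel

theorem mask133_eq : mask133 = maskF 133 := by decide +kernel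

theorem good133 : ((List.range 8).all fun x => goodC 133 (rowsOf 133 (m133 x))) &&
    goodC 133 id133 = true := by decide +kernel

theorem good_m133 (x : Nat) : Good 133 (rowsOf 133 (m133 x)) := by
  have h := (Bool.and_eq_true_iff.1 good133).1
  by_cases hx : x < 8
  · exact good_of_check (List.all_eq_true.1 h x (List.mem_range.2 hx))
  · rw [m133, List.getD_eq_default _ _ (by simp; omega)]
    exact good_of_check (List.all_eq_true.1 h 0 (List.mem_range.2 (by norm_num)))

theorem good_id133 : Good 133 id133 := good_of_check (Bool.and_eq_true_iff.1 good133).2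

theorem id133_check : allFrom (fun i => allFrom (fun j =>
    Nat.beq (fieldN (id133.getD i 0) j) (cond (Nat.beq i j) 1 0)) 0 133) 0 133 = true := by
  decide +kernel

theorem toMat_id133 : toMat 133 id133 = 1 := by
  ext i j
  have h1 := Nat.eq_of_beq_eq_true ((allFrom_iff _ _ _).1
    ((allFrom_iff _ _ _).1 id133_check i (Nat.zero_le _) (by have := i.2; omega)) j (Nat.zero_le _)
    (by have := j.2; omega))
  simp only [toMat, Matrix.of_apply, h1, Matrix.one_apply]
  by_cases hij : i = j
  · subst hij; simp
  · rw [if_neg hij, show Nat.beq (i : Nat) (j : Nat) = false from by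
      rw [← Bool.not_eq_true, Nat.beq_eq]; exact fun e => hij (Fin.ext e)]
    simp

/-- The matrix of a numbered letter. -/
noncomputable def M133 (x : Nat) : Matrix (Fin 133) (Fin 133) (ZMod 41) :=
  toMat 133 (rowsOf 133 (m133 x))

theorem good_rs133 : Good 133 rs133 := by
  have h : goodC 133 rs133 = true := by decide +kernel
  exact good_of_check h

theorem start_check : eqB (startInv133.map fun r => red mask133 (comb start133 r)) id133 = true ∧
    goodC 133 startInv133 = true := by
  refine ⟨?_, ?_⟩ <;> decide +kernel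

theorem start_inv : toMat 133 startInv133 * toMat 133 rs133 = 1 := by
  have h := (mul_spec (by norm_num) (good_of_check start_check.2) (B := start133) good_rs133).2
  rw [← mask133_eq, eqB_eq start_check.1, toMat_id133] at h
  exact h.symm

theorem spec133 {w : List Nat} (h : relB mask133 m133 rs133 rs133 w = true) :
    (w.map M133).prod = 1 := by
  have h1 := congrArg (toMat 133 startInv133 * ·) (relB_spec (by norm_num) mask133_eq good_m133 good_rs133 h)
  simp only [← mul_assoc, start_inv, one_mul] at h1
  exact h1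

theorem inv133 (g : HN.Gen) :
    M133 (gnum g) * M133 (gnum g + 4) = 1 ∧ M133 (gnum g + 4) * M133 (gnum g) = 1 := by
  have h := Bool.and_eq_true_iff.1
    (List.all_eq_true.1 hn_inv _ (List.mem_range.2 (gnum_lt g)))
  have h1 := spec133 h.1
  have h2 := spec133 h.2
  simp only [List.map_cons, List.map_nil, List.prod_cons, List.prod_nil, mul_one] at h1 h2
  exact ⟨h1, h2⟩

/-- The unit of a generator. -/
noncomputable def unit133 (g : HN.Gen) : (Matrix (Fin 133) (Fin 133) (ZMod 41))ˣ :=
  ⟨M133 (gnum g), M133 (gnum g + 4), (inv133 g).1, (inv133 g).2⟩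

attribute [local irreducible] M133

theorem unit133_val (g : HN.Gen) :
    ((unit133 g : (Matrix (Fin 133) (Fin 133) (ZMod 41))ˣ) : Matrix (Fin 133) (Fin 133) (ZMod 41)) =
      M133 (gnum g) := rfl

theorem unit133_inv (g : HN.Gen) :
    (((unit133 g)⁻¹ : (Matrix (Fin 133) (Fin 133) (ZMod 41))ˣ) :
      Matrix (Fin 133) (Fin 133) (ZMod 41)) = M133 (gnum g + 4) := rfl

attribute [local irreducible] unit133

theorem unit_sq {R : Type*} [Monoid R] {u : Rˣ} (h : u * u = 1) : (u : R) = ((u⁻¹ : Rˣ) : R) :=
  congrArg Units.val (eq_inv_of_mul_eq_one_left h)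

theorem coe_lift_gen {R : Type*} [Monoid R] (M : Nat → R) (u : HN.Gen → Rˣ)
    (hu : ∀ g, (u g : R) = M (gnum g)) (hu' : ∀ g, ((u g)⁻¹ : Rˣ) = M (gnum g + 4)) :
    ∀ l : List (HN.Gen × Bool), ((FreeGroup.lift u (FreeGroup.mk l) : Rˣ) : R) =
      ((l.map lcode).map M).prod
  | [] => by simp [← FreeGroup.one_eq_mk]
  | (g, b) :: l => by
    rw [show (g, b) :: l = [(g, b)] ++ l from rfl, ← FreeGroup.mul_mk, map_mul, Units.val_mul,
      coe_lift_gen M u hu hu' l, List.map_append, List.map_append, List.prod_append]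
    congr 1
    cases b <;> simp [FreeGroup.lift_mk, lcode, hu, hu']

theorem coe_lift133 (l : List (HN.Gen × Bool)) :
    ((FreeGroup.lift unit133 (FreeGroup.mk l) : (Matrix (Fin 133) (Fin 133) (ZMod 41))ˣ) :
      Matrix (Fin 133) (Fin 133) (ZMod 41)) = ((l.map lcode).map M133).prod :=
  coe_lift_gen M133 unit133 unit133_val unit133_inv l

theorem rels133 : ∀ r ∈ hnRels, FreeGroup.lift unit133 r = 1 := by
  intro r hr
  have hm := List.mem_map_of_mem (f := fun r : FreeGroup HN.Gen => r.toWord.map lcode)
    (mem_hnRels hr)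
  rw [lits_eq] at hm
  obtain ⟨k, hk, he⟩ := List.mem_iff_getElem.1 hm
  have h := spec133 (hn_all k (by simpa [lits] using hk))
  rw [List.getD_eq_getElem _ _ hk, he, ← coe_lift133, FreeGroup.mk_toWord] at h
  exact Units.ext h

/-- The representation of degree 133. -/
noncomputable def hnRep :
    PresentedGroup hnRels →* (Matrix (Fin 133) (Fin 133) (ZMod 41))ˣ :=
  PresentedGroup.toGroup rels133

theorem xx_witness : ((List.range 133).any fun i => !(Nat.beq
    (fieldN ((rowsOf 133 (m133 0)).getD 77 0) i % 41)
    (fieldN ((rowsOf 133 (m133 4)).getD 77 0) i % 41))) = true := by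
  decide +kernel

/-- In the presented Harada–Norton group `x * x` is not trivial. -/
theorem xx_ne_one :
    (PresentedGroup.of HN.Gen.x : PresentedGroup hnRels) * PresentedGroup.of HN.Gen.x ≠ 1 := by
  intro h
  have h1 : unit133 HN.Gen.x * unit133 HN.Gen.x = 1 := by
    have := congrArg hnRep h
    rwa [map_mul, map_one, hnRep, PresentedGroup.toGroup.of] at this
  have h2 := unit_sq h1
  rw [unit133_val, unit133_inv] at h2
  obtain ⟨j, hj, hne⟩ := List.any_eq_true.1 xx_witness
  have hj' := List.mem_range.1 hj
  have e : M133 (gnum HN.Gen.x) ⟨77, by norm_num⟩ ⟨j, hj'⟩ =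
      M133 (gnum HN.Gen.x + 4) ⟨77, by norm_num⟩ ⟨j, hj'⟩ := by rw [h2]
  rw [show gnum HN.Gen.x = 0 from rfl, show (0 : Nat) + 4 = 4 from rfl] at e
  unfold M133 at e
  simp only [toMat, Matrix.of_apply, ZMod.natCast_eq_natCast_iff'] at e
  rw [e, Nat.beq_refl] at hne
  simp at hne

end Cfsg.Agent.HNSub
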