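import Cfsg.Agent.HNSub.Inject
import Cfsg.Agent.HNSub.Rep
import Cfsg.Prelude.Def_SporadicB

/-!
# The subgroup on `x, y, z` of the presented Harada–Norton group
-/

set_option autoImplicit false
set_option maxRecDepth 100000

namespace Cfsg.Agent.HNSub

open Cfsg.Agent.CosetCert Cfsg.Spor
open scoped commutatorElement

/-- An even element with one fixed point. -/
def wordF : List (Fin 3 × Bool) := [(1, true), (1, true), (1, true), (2, true), (0, true), (0, true), (1, false), (0, true), (2, true)]

/-- The points in the order of a search from the fixed point: parent and generator. -/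
def reach : List (Fin 100 × Fin 100 × Fin 3) := [(90, 85, 0), (65, 85, 1), (68, 90, 1), (43, 65, 0), (45, 68, 0), (83, 68, 1), (24, 43, 1), (25, 45, 1), (64, 83, 0), (12, 24, 0), (98, 24, 1), (44, 25, 0), (41, 64, 1), (5, 12, 1), (97, 98, 0), (80, 98, 1), (58, 44, 1), (23, 41, 1), (3, 5, 0), (60, 5, 1), (77, 97, 1), (56, 80, 0), (87, 80, 1), (35, 58, 1), (36, 23, 0), (11, 23, 1), (42, 3, 1), (69, 60, 1), (52, 77, 1), (34, 56, 1), (66, 87, 1), (19, 35, 0), (91, 35, 1), (20, 36, 1), (86, 11, 1), (54, 42, 1), (76, 52, 0), (32, 52, 1), (51, 34, 0), (18, 34, 1), (9, 19, 1), (89, 91, 1), (57, 20, 1), (84, 86, 1), (79, 54, 0), (33, 54, 1), (94, 76, 1), (17, 32, 0), (95, 32, 1), (31, 51, 1), (4, 9, 0), (15, 9, 1), (67, 89, 1), (71, 57, 0), (99, 57, 1), (72, 79, 1), (53, 33, 0), (74, 94, 0), (96, 94, 1), (8, 17, 1), (1, 4, 1), (29, 15, 0), (7, 15, 1), (88, 67, 0), (47, 71, 1), (78, 99, 1), (49, 72, 0), (81, 72, 1), (55, 53, 1), (93, 96, 0), (16, 8, 0), (0, 1, 0), (61, 1, 1), (27, 29, 1), (14, 7, 0), (2, 7, 1),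 (28, 47, 0), (50, 47, 1), (59, 78, 1), (73, 81, 0), (62, 81, 1), (37, 61, 0), (39, 61, 1), (46, 27, 0), (13, 27, 1), (48, 14, 1), (6, 2, 0), (75, 50, 0), (30, 50, 1), (21, 37, 1), (40, 39, 0), (22, 39, 1), (26, 46, 1), (92, 75, 1), (10, 21, 0), (38, 40, 1), (70, 26, 1), (63, 38, 1), (82, 63, 0)]

/-- The fixed point. -/
def fixPt : Fin 100 := 85

theorem fix_facts :
    (∀ i : Fin 100, Cfsg.Agent.Compute.getField 7 (wordCode wordF) i.val = i.val → i = fixPt) ∧
      Cfsg.Agent.Compute.getField 7 (wordCode wordF) fixPt.val = fixPt.val ∧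
      esum 2 wordF % 2 = 0 := by
  refine ⟨?_, ?_, ?_⟩ <;> decide +kernel

/-- A step of the search is right. -/
def reachStep (k : Nat) : Bool :=
  let e := reach.getD k (0, 0, 0)
  Nat.beq (Cfsg.Agent.Compute.getField 7 (genCodes.getD e.2.2.val 0) e.2.1.val) e.1.val &&
    decide (e.2.2.val < 2) && (e.2.1 == fixPt || (reach.take k).any fun f => f.1 == e.2.1)

theorem reach_ok : (∀ k, k < reach.length → reachStep k = true) ∧
    ∀ i : Fin 100, i = fixPt ∨ reach.any (fun e => e.1 == i) = true := by
  refine ⟨?_, ?_⟩ <;> decide +kernel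

theorem perm100_apply (b : Fin 3) (i : Fin 100) :
    (perm100 b i).val = Cfsg.Agent.Compute.getField 7 (genCodes.getD b.val rep100.one) i.val :=
  congrArg Fin.val (Cfsg.Agent.Compute.denPerm_apply (Equiv.refl (Fin 100)) (gen_ok b) i)

/-- Only the identity commutes with the even part. -/
theorem eq_one_of_comm {m : Equiv.Perm (Fin 100)} (hm : ∀ h ∈ grp100Even, m * h = h * m) :
    m = 1 := by
  have hmem : ∀ {w : List (Fin 3 × Bool)}, esum 2 w % 2 = 0 →
      phiB (wval qgen w) ∈ grp100Even := fun h => map_dB_le ⟨_, mem_dB h, rfl⟩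
  have hgen : ∀ b : Fin 3, b.val < 2 → perm100 b ∈ grp100Even := by
    intro b hb
    have h := hmem (w := [(b, true)]) (by revert hb; revert b; decide +kernel)
    rwa [show wval qgen [(b, true)] = qgen b by simp [wval],
      show phiB (qgen b) = perm100 b from PresentedGroup.toGroup.of perm100_rels] at h
  have hF := hm _ (hmem fix_facts.2.2)
  have hap : ∀ i : Fin 100, (phiB (wval qgen wordF) i).val =
      Cfsg.Agent.Compute.getField 7 (wordCode wordF) i.val := fun i => by
    rw [phiB_wval]
    exact congrArg Fin.val (Cfsg.Agent.Compute.denPerm_apply (Equiv.refl (Fin 100))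
      (wordCode_spec wordF).1 i)
  have hfix : m fixPt = fixPt := by
    apply fix_facts.1
    rw [← hap]
    apply congrArg Fin.val
    have h := congrArg (fun σ : Equiv.Perm (Fin 100) => σ fixPt) hF
    simp only [Equiv.Perm.mul_apply] at h
    rw [← h]
    exact congrArg m (Fin.ext (by rw [hap, fix_facts.2.1]))
  have hall : ∀ k, k < reach.length → m (reach.getD k (0, 0, 0)).1 = (reach.getD k (0, 0, 0)).1 := by
    intro k
    induction k using Nat.strong_induction_on with
    | _ k ih =>
      intro hk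
      have h := reach_ok.1 k hk
      simp only [reachStep, Bool.and_eq_true, decide_eq_true_eq, Bool.or_eq_true] at h
      obtain ⟨⟨he, hb⟩, hp⟩ := h
      set e := reach.getD k (0, 0, 0) with he_def
      have hpar : m e.2.1 = e.2.1 := by
        rcases hp with hp | hp
        · rw [beq_iff_eq] at hp; rw [hp]; exact hfix
        · obtain ⟨f, hf, hfe⟩ := List.any_eq_true.1 hp
          obtain ⟨i, hi, rfl⟩ := List.mem_iff_getElem.1 hf
          rw [beq_iff_eq] at hfe
          have hik : i < k := by simp at hi; omega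
          have hil : i < reach.length := by omega
          have := ih i hik hil
          rw [List.getElem_take] at hfe
          rw [List.getD_eq_getElem _ _ hil] at this
          rw [← hfe]
          exact this
      have hc := congrArg (fun σ : Equiv.Perm (Fin 100) => σ e.2.1) (hm _ (hgen _ hb))
      simp only [Equiv.Perm.mul_apply, hpar] at hc
      have hg : perm100 e.2.2 e.2.1 = e.1 := Fin.ext (by
        rw [perm100_apply]
        have h0 : genCodes.getD e.2.2.val rep100.one = genCodes.getD e.2.2.val 0 := by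
          rw [List.getD_eq_getElem _ _ (by simp [genCodes]),
            List.getD_eq_getElem _ _ (by simp [genCodes])]
        rw [h0]
        exact Nat.eq_of_beq_eq_true he)
      rw [hg] at hc
      exact hc
  apply Equiv.ext
  intro i
  rcases reach_ok.2 i with rfl | h
  · exact hfix
  · obtain ⟨e, he, hei⟩ := List.any_eq_true.1 h
    obtain ⟨k, hk, rfl⟩ := List.mem_iff_getElem.1 he
    rw [beq_iff_eq] at hei
    have := hall k hk
    rw [List.getD_eq_getElem _ _ hk, hei] at this
    exact this

/-- The relators of `x, y, z`. -/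
def relsP : List (List (Fin 3 × Bool)) := C352.relWords.take 10

/-- The group presented by the relators of `x, y, z`. -/
abbrev PX : Type := PresentedGroup (wordRels relsP)

/-- Its generators. -/
noncomputable def pgen (b : Fin 3) : PX := PresentedGroup.of b

theorem pgen_rel {l : List (Fin 3 × Bool)} (hl : l ∈ relsP) : wval pgen l = 1 := wval_rel hl

/-- The square of `x`. -/
noncomputable def pc : PX := pgen 0 * pgen 0

theorem relsP_sub : ∀ l ∈ relsP, l ∈ C352.relWords := by decide +kernel

theorem relWords_cases : ∀ l ∈ C352.relWords, l ∈ relsP ∨ l = [(0, true), (0, true)] := by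
  decide +kernel

/-- The quotient map. -/
noncomputable def toB : PX →* Pb :=
  PresentedGroup.toGroup (wordRels_lift qgen fun l hl => qgen_rel (relsP_sub l hl))

theorem toB_gen (b : Fin 3) : toB (pgen b) = qgen b := PresentedGroup.toGroup.of _

theorem conj_sq_inv {G : Type*} [Group G] {s q : G} (h : s * q * s⁻¹ = q⁻¹) :
    s * s * q * (s * s)⁻¹ = q := by
  rw [show s * s * q * (s * s)⁻¹ = s * (s * q * s⁻¹) * s⁻¹ by group, h,
    show s * q⁻¹ * s⁻¹ = (s * q * s⁻¹)⁻¹ by group, h, inv_inv]

theorem pc_facts : pgen 1 * pc * (pgen 1)⁻¹ = pc⁻¹ ∧ pgen 2 * pc * (pgen 2)⁻¹ = pc⁻¹ ∧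
    pc * pc = 1 := by
  have e1 := pgen_rel (l := [(0, true), (0, true), (1, true), (0, true), (0, true), (1, false)]) (by decide +kernel)
  have e3 := pgen_rel (l := [(0, false), (1, true), (1, true), (0, true), (1, true), (1, true), (1, true), (0, false), (1, true), (1, true), (0, true), (1, true), (1, true), (1, true), (0, false), (1, true), (1, true), (0, true), (1, true), (1, true), (1, true)]) (by decide +kernel)
  have e6 := pgen_rel (l := [(2, true), (2, true)]) (by decide +kernel)
  have e7 := pgen_rel (l := [(2, true), (0, true), (2, true), (0, true)]) (by decide +kernel)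
  simp only [wval, cond_true, cond_false, mul_one] at e1 e3 e6 e7
  have hy : pgen 1 * pc * (pgen 1)⁻¹ = pc⁻¹ := by
    rw [eq_inv_iff_mul_eq_one, mul_eq_one_comm]
    rw [← e1, pc]; simp only [mul_assoc]
  have hz' : pgen 2 * pgen 0 * (pgen 2)⁻¹ = (pgen 0)⁻¹ := by
    rw [inv_eq_of_mul_eq_one_right e6, eq_inv_iff_mul_eq_one, ← e7]
    simp only [mul_assoc]
  have hz : pgen 2 * pc * (pgen 2)⁻¹ = pc⁻¹ := by
    rw [pc, show pgen 2 * (pgen 0 * pgen 0) * (pgen 2)⁻¹ =
      (pgen 2 * pgen 0 * (pgen 2)⁻¹) * (pgen 2 * pgen 0 * (pgen 2)⁻¹) by group, hz', mul_inv_rev]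
  have hx : pgen 0 * pc * (pgen 0)⁻¹ = pc := by rw [pc]; group
  set v := (pgen 0)⁻¹ * (pgen 1 * (pgen 1 * (pgen 0 * (pgen 1 * (pgen 1 * pgen 1))))) with hv
  have hv3 : v * (v * v) = 1 := by
    rw [← e3, hv]; simp only [mul_assoc]
  have y2 : pgen 1 * pgen 1 * pc * (pgen 1 * pgen 1)⁻¹ = pc := conj_sq_inv hy
  have hvc : v * pc * v⁻¹ = pc⁻¹ := by
    calc v * pc * v⁻¹ = (pgen 0)⁻¹ * (pgen 1 * pgen 1 * (pgen 0 * (pgen 1 *
          (pgen 1 * pgen 1 * pc * (pgen 1 * pgen 1)⁻¹) * (pgen 1)⁻¹) * (pgen 0)⁻¹) *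
          (pgen 1 * pgen 1)⁻¹) * pgen 0 := by rw [hv]; group
      _ = (pgen 0)⁻¹ * (pgen 1 * pgen 1 * (pgen 0 * pc⁻¹ * (pgen 0)⁻¹) *
          (pgen 1 * pgen 1)⁻¹) * pgen 0 := by rw [y2, hy]
      _ = (pgen 0)⁻¹ * (pgen 1 * pgen 1 * pc⁻¹ * (pgen 1 * pgen 1)⁻¹) * pgen 0 := by
          rw [show pgen 0 * pc⁻¹ * (pgen 0)⁻¹ = (pgen 0 * pc * (pgen 0)⁻¹)⁻¹ by group, hx]
      _ = (pgen 0)⁻¹ * pc⁻¹ * pgen 0 := by
          rw [show pgen 1 * pgen 1 * pc⁻¹ * (pgen 1 * pgen 1)⁻¹ =
            (pgen 1 * pgen 1 * pc * (pgen 1 * pgen 1)⁻¹)⁻¹ by simp [mul_assoc], y2]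
      _ = pc⁻¹ := by rw [pc]; group
  have hcc : pc = pc⁻¹ := by
    calc pc = v * (v * v) * pc * (v * (v * v))⁻¹ := by rw [hv3]; group
      _ = v * (v * v * pc * (v * v)⁻¹) * v⁻¹ := by group
      _ = pc⁻¹ := by rw [conj_sq_inv hvc, hvc]
  exact ⟨hy, hz, by nth_rw 1 [hcc]; exact inv_mul_cancel pc⟩

theorem pc_inv : pc⁻¹ = pc := inv_eq_of_mul_eq_one_right pc_facts.2.2

theorem pc_central : ∀ g : PX, pc * g = g * pc := by
  obtain ⟨hy, hz, -⟩ := pc_facts
  rw [pc_inv] at hy hz
  intro g
  have hg : g ∈ (⊤ : Subgroup PX) := trivial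
  rw [← PresentedGroup.closure_range_of] at hg
  induction hg using Subgroup.closure_induction with
  | mem g hg =>
    obtain ⟨b, rfl⟩ := hg
    show pc * pgen b = pgen b * pc
    fin_cases b
    · simp [pc, mul_assoc]
    · exact (mul_inv_eq_iff_eq_mul.1 hy).symm
    · exact (mul_inv_eq_iff_eq_mul.1 hz).symm
  | one => simp
  | mul a b _ _ ha hb => rw [← mul_assoc, ha, mul_assoc, hb, mul_assoc]
  | inv a _ ha => exact (show Commute pc a from ha).inv_right

theorem pc_mem_commutator : pc ∈ commutator PX := by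
  rw [← Abelianization.ker_of, MonoidHom.mem_ker]
  have h := congrArg Abelianization.of (pgen_rel (l := [(2, false), (1, true), (0, false), (1, false), (1, false), (0, false), (1, false), (0, false), (1, false), (2, true), (1, true), (0, true), (1, true), (0, true), (1, true), (1, true), (0, true), (1, false), (0, false), (0, false)]) (by decide +kernel))
  rw [map_one, map_wval, wval_comm,
    show esum 0 [(2, false), (1, true), (0, false), (1, false), (1, false), (0, false), (1, false), (0, false), (1, false), (2, true), (1, true), (0, true), (1, true), (0, true), (1, true), (1, true), (0, true), (1, false), (0, false), (0, false)] = -2 from by decide +kernel,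
    show esum 1 [(2, false), (1, true), (0, false), (1, false), (1, false), (0, false), (1, false), (0, false), (1, false), (2, true), (1, true), (0, true), (1, true), (0, true), (1, true), (1, true), (0, true), (1, false), (0, false), (0, false)] = 0 from by decide +kernel,
    show esum 2 [(2, false), (1, true), (0, false), (1, false), (1, false), (0, false), (1, false), (0, false), (1, false), (2, true), (1, true), (0, true), (1, true), (0, true), (1, true), (1, true), (0, true), (1, false), (0, false), (0, false)] = 0 from by decide +kernel] at h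
  simp only [zpow_neg, zpow_ofNat, zpow_zero, mul_one, pow_zero, inv_one, inv_eq_one] at h
  rw [pc, map_mul, ← pow_two]
  exact h

/-- The images of the generators in the presented group. -/
def genOf (b : Fin 3) : HN.Gen :=
  match b with
  | ⟨0, _⟩ => .x
  | ⟨1, _⟩ => .y
  | ⟨_, _⟩ => .z

theorem exists_toHN : ∃ ψ : PX →* PresentedGroup hnRels,
    ∀ b, ψ (pgen b) = PresentedGroup.of (genOf b) := by
  obtain ⟨ψ, hψ⟩ := exists_rename (rels := hnRels) relsP genOf (by
    intro l hl
    have h : ∀ l ∈ relsP,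
        l.map (fun a => (genOf a.1, a.2)) ∈ HN.extra.map FreeGroup.toWord := by decide +kernel
    obtain ⟨r, hr, he⟩ := List.mem_map.1 (h l hl)
    rw [← he, FreeGroup.mk_toWord]
    exact PresentedGroup.one_of_mem (Or.inr hr))
  exact ⟨ψ, fun b => by
    rw [show pgen b = PresentedGroup.mk _ (FreeGroup.of b) from rfl, hψ, FreeGroup.map.of]; rfl⟩

/-- The action on 100 points. -/
noncomputable def phiP : PX →* Equiv.Perm (Fin 100) := phiB.comp toB

theorem phiP_ker : phiP.ker = Subgroup.zpowers pc := by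
  have hc : toB pc = 1 := by
    have h := qgen_rel (l := [(0, true), (0, true)]) (by decide +kernel)
    rw [pc, map_mul, toB_gen]
    simpa only [wval, cond_true, mul_one] using h
  apply le_antisymm
  · intro g hg
    have hn : (Subgroup.zpowers pc).Normal := ⟨fun n hn p => by
      obtain ⟨i, rfl⟩ := hn
      have : Commute p (pc ^ i) := (show Commute p pc from (pc_central p).symm).zpow_right i
      rw [this.eq, mul_inv_cancel_right]
      exact Subgroup.zpow_mem_zpowers pc i⟩
    let π : PX →* PX ⧸ Subgroup.zpowers pc := QuotientGroup.mk' _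
    have hr : ∀ r ∈ wordRels C352.relWords, FreeGroup.lift (fun b => π (pgen b)) r = 1 :=
      wordRels_lift _ fun l hl => by
        rw [← map_wval]
        rcases relWords_cases l hl with h | rfl
        · rw [pgen_rel h, map_one]
        · refine (QuotientGroup.eq_one_iff _).2 ?_
          simpa [wval, pc] using Subgroup.mem_zpowers pc
    have hcomp : (PresentedGroup.toGroup hr).comp toB = π :=
      PresentedGroup.ext fun b => by
        show PresentedGroup.toGroup hr (toB (pgen b)) = π (pgen b)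
        rw [toB_gen]; exact PresentedGroup.toGroup.of hr
    have hb : toB g = 1 := phiB_injective (by rw [map_one]; exact hg)
    refine (QuotientGroup.eq_one_iff g).1 ?_
    show π g = 1
    rw [← hcomp, MonoidHom.comp_apply, hb, map_one]
  · rw [Subgroup.zpowers_le, MonoidHom.mem_ker, phiP, MonoidHom.comp_apply, hc, map_one]

theorem phiP_gen (b : Fin 3) : phiP (pgen b) = perm100 b := by
  rw [phiP, MonoidHom.comp_apply, toB_gen]
  exact PresentedGroup.toGroup.of perm100_rels

theorem phiP_range : phiP.range = grp100 := by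
  rw [MonoidHom.range_eq_map, ← PresentedGroup.closure_range_of, MonoidHom.map_closure, grp100]
  congr 1
  ext g
  simp only [Set.mem_image, Set.mem_range]
  constructor
  · rintro ⟨_, ⟨b, rfl⟩, rfl⟩
    exact ⟨b, (phiP_gen b).symm⟩
  · rintro ⟨b, rfl⟩
    exact ⟨_, ⟨b, rfl⟩, phiP_gen b⟩

theorem grp100Even_conj {g h : Equiv.Perm (Fin 100)} (hg : g ∈ grp100) (hh : h ∈ grp100Even) :
    g * h * g⁻¹ ∈ grp100Even :=
  Subgroup.mem_inf.2 ⟨mul_mem (mul_mem hg (Subgroup.mem_inf.1 hh).1) (inv_mem hg),
    (MonoidHom.normal_ker Equiv.Perm.sign).conj_mem _ (Subgroup.mem_inf.1 hh).2 g⟩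

theorem toHN_injective {ψ : PX →* PresentedGroup hnRels}
    (hψ : ∀ b, ψ (pgen b) = PresentedGroup.of (genOf b)) : Function.Injective ψ := by
  have hc : ψ pc ≠ 1 := by
    rw [pc, map_mul, hψ]; exact xx_ne_one
  rw [← MonoidHom.ker_eq_bot_iff]
  let M : Subgroup (Equiv.Perm (Fin 100)) := ψ.ker.map phiP
  have hMle : M ≤ grp100 := by
    rw [← phiP_range]; exact Subgroup.map_le_range phiP _
  have hMn : ∀ g ∈ grp100, ∀ m ∈ M, g * m * g⁻¹ ∈ M := by
    intro g hg m hm
    rw [← phiP_range] at hg
    obtain ⟨p, rfl⟩ := hg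
    obtain ⟨k, hk, rfl⟩ := hm
    exact ⟨p * k * p⁻¹, (MonoidHom.normal_ker ψ).conj_mem k hk p, by simp⟩
  by_cases hH : M ⊓ grp100Even = ⊥
  · have hM1 : ∀ m ∈ M, m = 1 := by
      intro m hm
      refine eq_one_of_comm fun h hh => ?_
      have h1 : m * h * m⁻¹ * h⁻¹ ∈ M ⊓ grp100Even := by
        refine Subgroup.mem_inf.2 ⟨?_, mul_mem (grp100Even_conj (hMle hm) hh) (inv_mem hh)⟩
        rw [show m * h * m⁻¹ * h⁻¹ = m * (h * m⁻¹ * h⁻¹) by group]
        exact mul_mem hm (hMn h hh.1 m⁻¹ (inv_mem hm))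
      rw [hH, Subgroup.mem_bot] at h1
      exact commutatorElement_eq_one_iff_mul_comm.1 (by rw [commutatorElement_def]; exact h1)
    rw [eq_bot_iff]
    intro k hk
    have hk1 : k ∈ phiP.ker := hM1 _ ⟨k, hk, rfl⟩
    rw [phiP_ker] at hk1
    obtain ⟨i, rfl⟩ := hk1
    rw [Subgroup.mem_bot]
    rcases Int.even_or_odd i with ⟨j, rfl⟩ | ⟨j, rfl⟩
    · show pc ^ (j + j) = 1
      rw [← two_mul, zpow_mul, zpow_two, pc_facts.2.2, one_zpow]
    · exfalso
      apply hc
      rw [MonoidHom.mem_ker] at hk
      change ψ (pc ^ (2 * j + 1)) = 1 at hk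
      rwa [zpow_add_one, zpow_mul, zpow_two, pc_facts.2.2, one_zpow, one_mul] at hk
  · have hE : M ⊓ grp100Even = grp100Even :=
      conj_invariant_eq inf_le_right
        (fun g hg h hh => ⟨hMn g hg.1 h hh.1, grp100Even_conj hg.1 hh.2⟩) hH
    exfalso
    apply hc
    have hcz : ψ pc * ψ (pgen 2) = ψ (pgen 2) * ψ pc := by
      rw [← map_mul, ← map_mul, pc_central]
    let S : Set (PresentedGroup hnRels) := {ψ pc, ψ (pgen 2)}
    have hcl : ∀ p : PX, ψ p ∈ Subgroup.closure S := by
      intro p
      have heven : ∀ p : PX, phiP p ∈ grp100Even → ψ p ∈ Subgroup.closure S := by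
        intro p hp
        rw [← hE] at hp
        obtain ⟨k, hk, hkp⟩ := hp.1
        have hki : k⁻¹ * p ∈ phiP.ker := by
          rw [MonoidHom.mem_ker, map_mul, map_inv, hkp, inv_mul_cancel]
        rw [phiP_ker] at hki
        obtain ⟨i, hi⟩ := hki
        have : ψ p = ψ pc ^ i := by
          have h := congrArg ψ hi
          rw [map_zpow, map_mul, map_inv, (show ψ k = 1 from hk), inv_one, one_mul] at h
          exact h.symm
        rw [this]
        exact zpow_mem (Subgroup.subset_closure (Set.mem_insert _ _)) i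
      rcases Int.units_eq_one_or (Equiv.Perm.sign (phiP p)) with h | h
      · exact heven p ⟨by rw [← phiP_range]; exact ⟨p, rfl⟩, h⟩
      · have h2 := heven (p * pgen 2) ⟨by rw [← phiP_range]; exact ⟨_, rfl⟩, by
          show Equiv.Perm.sign (phiP (p * pgen 2)) = 1
          rw [map_mul, map_mul, h, phiP_gen, sign_z]; rfl⟩
        rw [map_mul] at h2
        have hzS : ψ (pgen 2) ∈ Subgroup.closure S :=
          Subgroup.subset_closure (Set.mem_insert_of_mem _ rfl)
        simpa using mul_mem h2 (inv_mem hzS)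
    have hcomm : ∀ p q : PX, ψ p * ψ q = ψ q * ψ p := by
      have h1 : Subgroup.closure S ≤ Subgroup.centralizer S :=
        (Subgroup.closure_le _).2 fun q hq => Subgroup.mem_centralizer_iff.2 fun p hp => by
          simp only [S, Set.mem_insert_iff, Set.mem_singleton_iff] at hp hq
          rcases hp with rfl | rfl <;> rcases hq with rfl | rfl <;>
            first | rfl | exact hcz | exact hcz.symm
      have h2 : Subgroup.closure S ≤ Subgroup.centralizer (Subgroup.closure S : Set _) :=
        (Subgroup.closure_le _).2 fun q hq => Subgroup.mem_centralizer_iff.2 fun p hp =>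
          ((Subgroup.mem_centralizer_iff.1 (h1 hp)) q hq).symm
      exact fun p q => (Subgroup.mem_centralizer_iff.1 (h2 (hcl q))) _ (hcl p)
    have hle : commutator PX ≤ ψ.ker := by
      rw [commutator_def, Subgroup.commutator_le]
      intro g _ k _
      rw [MonoidHom.mem_ker, commutatorElement_def, map_mul, map_mul, map_mul, map_inv, map_inv,
        hcomm g k]
      group
    exact hle pc_mem_commutator

/-- The even part. -/
noncomputable def kP : Subgroup PX := (Equiv.Perm.sign.comp phiP).ker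

theorem kP_index : kP.index = 2 := by
  have hs : Function.Surjective (Equiv.Perm.sign.comp phiP) := by
    intro u
    rcases Int.units_eq_one_or u with rfl | rfl
    · exact ⟨1, map_one _⟩
    · exact ⟨pgen 2, by rw [MonoidHom.comp_apply, phiP_gen, sign_z]⟩
  rw [kP, Subgroup.index_ker, MonoidHom.range_eq_top_of_surjective _ hs, Subgroup.card_top,
    Nat.card_eq_fintype_card, Fintype.card_units_int]

theorem grp100Even_simple : IsSimpleGroup ↥grp100Even := by
  obtain ⟨e⟩ := grp100Even_iso
  have : IsSimpleGroup ↥Cfsg.Spor.HS := Cfsg.Agent.HigSims.card_and_simple.2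
  exact MulEquiv.isSimpleGroup e

theorem kP_cover : Cfsg.IsNonsplitDoubleCover kP Cfsg.Spor.HS := by
  let f : kP →* grp100Even := (phiP.comp kP.subtype).codRestrict grp100Even
    fun g => ⟨by rw [← phiP_range]; exact ⟨g.1, rfl⟩, g.2⟩
  have hfs : Function.Surjective f := by
    rintro ⟨m, hm⟩
    have : m ∈ phiP.range := by rw [phiP_range]; exact hm.1
    obtain ⟨p, rfl⟩ := this
    exact ⟨⟨p, hm.2⟩, rfl⟩
  have hfk : ∀ g : kP, g ∈ f.ker ↔ (g : PX) ∈ Subgroup.zpowers pc := by
    intro g
    rw [← phiP_ker, MonoidHom.mem_ker, MonoidHom.mem_ker]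
    exact ⟨fun h => congrArg Subtype.val h, fun h => Subtype.ext h⟩
  have hpc : pc ∈ kP := Abelianization.commutator_subset_ker _ pc_mem_commutator
  have hsimple := grp100Even_simple
  have hcenterG : Subgroup.center ↥grp100Even = ⊥ := by
    rcases (inferInstance : (Subgroup.center ↥grp100Even).Normal).eq_bot_or_eq_top with h | h
    · exact h
    · exfalso
      apply eA_ne
      have hB : phiB eG * phiB eB = phiB eB * phiB eG := by
        have h1 : (⟨_, map_dB_le ⟨_, eB_mem, rfl⟩⟩ : grp100Even) ∈ Subgroup.center ↥grp100Even := by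
          rw [h]; trivial
        exact congrArg Subtype.val
          (Subgroup.mem_center_iff.1 h1 ⟨_, map_dB_le ⟨_, eG_mem, rfl⟩⟩)
      exfalso
      rw [← map_mul, ← map_mul, eG, eB, ← wval_append, ← wval_append] at hB
      exact phiB_ne 0 (by decide +kernel) hB
  have hcenter : Subgroup.center kP = f.ker := by
    apply le_antisymm
    · intro g hg
      rw [MonoidHom.mem_ker, ← Subgroup.mem_bot, ← hcenterG, Subgroup.mem_center_iff]
      intro m
      obtain ⟨p, rfl⟩ := hfs m
      rw [← map_mul, ← map_mul, Subgroup.mem_center_iff.1 hg p]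
    · intro g hg
      rw [Subgroup.mem_center_iff]
      intro p
      obtain ⟨i, hi⟩ := (hfk g).1 hg
      apply Subtype.ext
      show (p : PX) * g = g * p
      rw [← hi]
      exact ((show Commute (p : PX) pc from (pc_central p.1).symm).zpow_right i).eq
  have hpc1 : pc ≠ 1 := by
    intro h
    obtain ⟨ψ, hψ⟩ := exists_toHN
    apply xx_ne_one
    have := congrArg ψ h
    rwa [pc, map_mul, hψ, map_one] at this
  have hcard : Nat.card f.ker = 2 := by
    have h1 : f.ker.map kP.subtype = Subgroup.zpowers pc := by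
      ext g
      constructor
      · rintro ⟨a, ha, rfl⟩; exact (hfk a).1 ha
      · intro hg
        have hgk : g ∈ kP := by
          obtain ⟨i, rfl⟩ := hg
          exact zpow_mem hpc i
        exact ⟨⟨g, hgk⟩, (hfk _).2 hg, rfl⟩
    rw [← Subgroup.card_map_of_injective (Subgroup.subtype_injective kP), h1, Nat.card_zpowers]
    exact orderOf_eq_prime (by rw [pow_two]; exact pc_facts.2.2) hpc1
  refine ⟨hcenter ▸ hcard, ?_, ?_⟩
  · obtain ⟨e⟩ := grp100Even_iso
    exact ⟨((QuotientGroup.quotientMulEquivOfEq hcenter).trans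
      (QuotientGroup.quotientKerEquivOfSurjective f hfs)).trans e⟩
  · intro L hL
    rw [hcenter] at hL
    -- the derived subgroup of `kP` is the complement and is normal in `PX`
    let J : Subgroup PX := ⁅kP, kP⁆
    have hkn : kP.Normal := MonoidHom.normal_ker _
    have hJn : J.Normal := Subgroup.commutator_normal kP kP
    have hJL : J ≤ L.map kP.subtype := by
      rw [Subgroup.commutator_le]
      intro g hg k hk
      obtain ⟨⟨zg, lg⟩, eg⟩ := hL.2 ⟨g, hg⟩
      obtain ⟨⟨zk, lk⟩, ek⟩ := hL.2 ⟨k, hk⟩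
      have cg : ∀ q : kP, Commute (zg.1) q := fun q =>
        (Subgroup.mem_center_iff.1 (show zg.1 ∈ Subgroup.center kP by rw [hcenter]; exact zg.2) q).symm
      have ck : ∀ q : kP, Commute (zk.1) q := fun q =>
        (Subgroup.mem_center_iff.1 (show zk.1 ∈ Subgroup.center kP by rw [hcenter]; exact zk.2) q).symm
      refine ⟨⁅lg.1, lk.1⁆, mul_mem (mul_mem (mul_mem lg.2 lk.2) (inv_mem lg.2)) (inv_mem lk.2), ?_⟩
      have e : ⁅(⟨g, hg⟩ : kP), ⟨k, hk⟩⁆ = ⁅lg.1, lk.1⁆ := by
        simp only at eg ek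
        rw [← eg, ← ek, commutatorElement_def, commutatorElement_def]
        have a1 := cg (lg.1 * zk.1 * lk.1 * lg.1⁻¹)
        have a2 := ck (lg.1⁻¹)
        have a3 := ck (lk.1)
        calc zg.1 * lg.1 * (zk.1 * lk.1) * (zg.1 * lg.1)⁻¹ * (zk.1 * lk.1)⁻¹
            = zg.1 * (lg.1 * zk.1 * lk.1 * lg.1⁻¹) * zg.1⁻¹ * lk.1⁻¹ * zk.1⁻¹ := by group
          _ = lg.1 * (zk.1 * lk.1) * lg.1⁻¹ * lk.1⁻¹ * zk.1⁻¹ := by rw [a1.eq]; group
          _ = lg.1 * lk.1 * (zk.1 * lg.1⁻¹) * lk.1⁻¹ * zk.1⁻¹ := by rw [a3.eq]; group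
          _ = lg.1 * lk.1 * lg.1⁻¹ * (zk.1 * lk.1⁻¹) * zk.1⁻¹ := by rw [a2.eq]; group
          _ = lg.1 * lk.1 * lg.1⁻¹ * lk.1⁻¹ := by rw [(ck lk.1⁻¹).eq]; group
      have := congrArg Subtype.val e
      exact this.symm
    have hmap : J.map phiP = grp100Even := by
      have hk : kP.map phiP = grp100Even := by
        ext m
        constructor
        · rintro ⟨p, hp, rfl⟩; exact ⟨by rw [← phiP_range]; exact ⟨p, rfl⟩, hp⟩
        · intro hm
          obtain ⟨p, hp⟩ := hfs ⟨m, hm⟩
          exact ⟨p.1, p.2, congrArg Subtype.val hp⟩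
      rw [Subgroup.map_commutator, hk]
      have h2 := map_dB2
      rwa [Subgroup.map_commutator, map_dB] at h2
    have hpcJ : pc ∉ J := by
      intro h
      obtain ⟨a, ha, hae⟩ := hJL h
      have h1 : a ∈ f.ker := (hfk a).2 (by rw [show (a : PX) = pc from hae]; exact Subgroup.mem_zpowers pc)
      have := Subgroup.disjoint_def.1 hL.disjoint h1 ha
      rw [this] at hae
      exact hpc1 hae.symm
    apply hpcJ
    let π : PX →* PX ⧸ J := QuotientGroup.mk' J
    let S : Set (PX ⧸ J) := {π pc, π (pgen 2)}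
    have hcz : π pc * π (pgen 2) = π (pgen 2) * π pc := by
      rw [← map_mul, ← map_mul, pc_central]
    have heven : ∀ p : PX, phiP p ∈ grp100Even → π p ∈ Subgroup.closure S := by
      intro p hp
      rw [← hmap] at hp
      obtain ⟨k, hk, hkp⟩ := hp
      have hki : k⁻¹ * p ∈ phiP.ker := by
        rw [MonoidHom.mem_ker, map_mul, map_inv, hkp, inv_mul_cancel]
      rw [phiP_ker] at hki
      obtain ⟨i, hi⟩ := hki
      have : π p = π pc ^ i := by
        have h := congrArg π hi
        rw [map_zpow, map_mul, map_inv, (show π k = 1 from (QuotientGroup.eq_one_iff k).2 hk),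
          inv_one, one_mul] at h
        exact h.symm
      rw [this]
      exact zpow_mem (Subgroup.subset_closure (Set.mem_insert _ _)) i
    have hcl : ∀ p : PX, π p ∈ Subgroup.closure S := by
      intro p
      rcases Int.units_eq_one_or (Equiv.Perm.sign (phiP p)) with h | h
      · exact heven p ⟨by rw [← phiP_range]; exact ⟨p, rfl⟩, h⟩
      · have h2 := heven (p * pgen 2) ⟨by rw [← phiP_range]; exact ⟨_, rfl⟩, by
          show Equiv.Perm.sign (phiP (p * pgen 2)) = 1
          rw [map_mul, map_mul, h, phiP_gen, sign_z]; rfl⟩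
        rw [map_mul] at h2
        have hzS : π (pgen 2) ∈ Subgroup.closure S :=
          Subgroup.subset_closure (Set.mem_insert_of_mem _ rfl)
        simpa using mul_mem h2 (inv_mem hzS)
    have hcomm : ∀ p q : PX, π p * π q = π q * π p := by
      have h1 : Subgroup.closure S ≤ Subgroup.centralizer S :=
        (Subgroup.closure_le _).2 fun q hq => Subgroup.mem_centralizer_iff.2 fun p hp => by
          simp only [S, Set.mem_insert_iff, Set.mem_singleton_iff] at hp hq
          rcases hp with rfl | rfl <;> rcases hq with rfl | rfl <;>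
            first | rfl | exact hcz | exact hcz.symm
      have h2 : Subgroup.closure S ≤ Subgroup.centralizer (Subgroup.closure S : Set _) :=
        (Subgroup.closure_le _).2 fun q hq => Subgroup.mem_centralizer_iff.2 fun p hp =>
          ((Subgroup.mem_centralizer_iff.1 (h1 hp)) q hq).symm
      exact fun p q => (Subgroup.mem_centralizer_iff.1 (h2 (hcl q))) _ (hcl p)
    have hle : commutator PX ≤ J := by
      rw [commutator_def, Subgroup.commutator_le]
      intro g _ k _
      refine (QuotientGroup.eq_one_iff _).1 ?_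
      show π ⁅g, k⁆ = 1
      rw [commutatorElement_def, map_mul, map_mul, map_mul, map_inv, map_inv, hcomm g k]
      group
    exact hle pc_mem_commutator

/-- The conclusion, for any isomorphic copy of `PX`. -/
theorem exists_index_two {N : Type*} [Group N] (e : PX ≃* N) :
    ∃ K : Subgroup N, K.Normal ∧ K.index = 2 ∧ Cfsg.IsNonsplitDoubleCover K Cfsg.Spor.HS := by
  have hidx : (kP.map e.toMonoidHom).index = 2 := by
    exact (Subgroup.index_map_equiv kP e).trans kP_index
  refine ⟨kP.map e.toMonoidHom, Subgroup.normal_of_index_eq_two hidx, hidx, ?_⟩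
  let i : kP ≃* kP.map e.toMonoidHom := kP.equivMapOfInjective e.toMonoidHom e.injective
  obtain ⟨h1, ⟨q⟩, h3⟩ := kP_cover
  have hce : (Subgroup.center kP).map i.toMonoidHom = Subgroup.center ↥(kP.map e.toMonoidHom) := by
    ext g
    constructor
    · rintro ⟨a, ha, rfl⟩
      rw [Subgroup.mem_center_iff]
      intro b
      obtain ⟨b, rfl⟩ := i.surjective b
      show i b * i a = i a * i b
      rw [← map_mul, ← map_mul, Subgroup.mem_center_iff.1 ha b]
    · intro hg
      obtain ⟨a, rfl⟩ := i.surjective g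
      refine ⟨a, Subgroup.mem_center_iff.2 fun b => i.injective ?_, rfl⟩
      rw [map_mul, map_mul]
      exact Subgroup.mem_center_iff.1 hg (i b)
  refine ⟨?_, ⟨(QuotientGroup.congr _ _ i hce).symm.trans q⟩, ?_⟩
  · rw [← hce, Subgroup.card_map_of_injective (f := i.toMonoidHom) i.injective, h1]
  · intro L hL
    apply h3 (L.comap i.toMonoidHom)
    refine Subgroup.isComplement'_of_disjoint_and_mul_eq_univ ?_ ?_
    · rw [Subgroup.disjoint_def]
      intro a ha hb
      apply i.injective
      rw [map_one]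
      exact Subgroup.disjoint_def.1 hL.disjoint (by rw [← hce]; exact ⟨a, ha, rfl⟩) hb
    · rw [Set.eq_univ_iff_forall]
      intro a
      obtain ⟨⟨z, l⟩, hzl⟩ := hL.2 (i a)
      have hz : z.1 ∈ (Subgroup.center kP).map i.toMonoidHom := by rw [hce]; exact z.2
      obtain ⟨z0, hz0, hze⟩ := hz
      refine ⟨z0, hz0, z0⁻¹ * a, ?_, mul_inv_cancel_left z0 a⟩
      show i (z0⁻¹ * a) ∈ L
      rw [map_mul, map_inv, show i z0 = z.1 from hze, ← hzl]
      rw [inv_mul_cancel_left]; exact l.2

/-- `PX` maps isomorphically to the subgroup generated by `x, y, z`. -/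
theorem exists_iso_xyz : Nonempty (PX ≃* ↥((Subgroup.closure
    ({HN.x, HN.y, HN.z} : Set (FreeGroup HN.Gen))).map (PresentedGroup.mk hnRels))) := by
  obtain ⟨ψ, hψ⟩ := exists_toHN
  have hr : ψ.range = (Subgroup.closure
      ({HN.x, HN.y, HN.z} : Set (FreeGroup HN.Gen))).map (PresentedGroup.mk hnRels) := by
    rw [MonoidHom.range_eq_map, ← PresentedGroup.closure_range_of, MonoidHom.map_closure,
      MonoidHom.map_closure]
    congr 1
    ext g
    simp only [Set.mem_image, Set.mem_range]
    constructor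
    · rintro ⟨_, ⟨b, rfl⟩, rfl⟩
      refine ⟨FreeGroup.of (genOf b), ?_, (hψ b).symm⟩
      fin_cases b
      · exact Set.mem_insert _ _
      · exact Set.mem_insert_of_mem _ (Set.mem_insert _ _)
      · exact Set.mem_insert_of_mem _ (Set.mem_insert_of_mem _ rfl)
    · rintro ⟨w, hw, rfl⟩
      simp only [Set.mem_insert_iff, Set.mem_singleton_iff] at hw
      rcases hw with rfl | rfl | rfl
      · exact ⟨pgen 0, ⟨0, rfl⟩, hψ 0⟩
      · exact ⟨pgen 1, ⟨1, rfl⟩, hψ 1⟩
      · exact ⟨pgen 2, ⟨2, rfl⟩, hψ 2⟩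
  exact ⟨(MonoidHom.ofInjective (toHN_injective hψ)).trans (MulEquiv.subgroupCongr hr)⟩

end Cfsg.Agent.HNSub
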