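import Cfsg.Agent.HNSub.Maps

/-! Generated: kernel checks of relators in degree 133. -/

set_option Elab.async false
set_option maxRecDepth 100000

namespace Cfsg.Agent.HNSub

theorem hn3 : relB mask133 m133 rs133 rs133 (lits.getD 3 []) = true := by decide +kernel

theorem hn7 : relB mask133 m133 rs133 rs133 (lits.getD 7 []) = true := by decide +kernel

theorem hn11 : relB mask133 m133 rs133 rs133 (lits.getD 11 []) = true := by decide +kernel

end Cfsg.Agent.HNSub
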