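import Cfsg.Agent.HNSub.Check0
import Cfsg.Agent.HNSub.Check1
import Cfsg.Agent.HNSub.Check2
import Cfsg.Agent.HNSub.Check3
import Cfsg.Agent.HNSub.Check4
import Cfsg.Agent.HNSub.Check5

/-! Generated: the checks, combined. -/

set_option Elab.async false
set_option maxRecDepth 100000

namespace Cfsg.Agent.HNSub

theorem hn_all : ∀ k, k < 14 → relB mask133 m133 rs133 rs133 (lits.getD k []) = true
  | 0, _ => hn0
  | 1, _ => hn1
  | 2, _ => hn2
  | 3, _ => hn3
  | 4, _ => hn4
  | 5, _ => hn5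
  | 6, _ => hn6
  | 7, _ => hn7
  | 8, _ => hn8
  | 9, _ => hn9
  | 10, _ => hn10
  | 11, _ => hn11
  | 12, _ => hn12
  | 13, _ => hn13
  | k + 14, h => absurd h (by omega)

theorem hn_inv : ((List.range 4).all fun x => relB mask133 m133 rs133 rs133 [x, x + 4] &&
    relB mask133 m133 rs133 rs133 [x + 4, x]) = true := by decide +kernel

end Cfsg.Agent.HNSub
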