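import Mathlib

/-! Generated: a strongly regular graph on 100 points. -/

namespace Cfsg.Agent.HNSub

/-- The neighbours of each point. -/
def adjMasks : List Nat := [
  0x5100891020200900a28c41412,
  0x2200000c10072485093288201,
  0x1402088980442028423700410,
  0x6002a0430080850c0b008d20,
  0x2010264408892d2004090205,
  0x1108846001048588030391008,
  0x25008500064c334000209e00,
  0x7600120321023cb000600400,
  0x2003011808520280024e31208,
  0x152c240127000008c40002152,
  0x280c04024c0204000c40940cd,
  0x5124000900813082284d80048,
  0x8c001085c20030430c2000161,
  0x810880298000952082f90200,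
  0x1003b05523010096002a00400,
  0x108381a2c680000a00045004a,
  0x406050012021202530100a530,
  0x120408426008252e2420c0100,
  0x4683401084080d0085328001,
  0x84c2319002504000008022c32,
  0x2201011466220205840042824,
  0xc084420040881000a080461e6,
  0x800830440108c40415000a985,
  0x6c006a044048429001006901,
  0x891400500310530204085000e,
  0x4168012004a0c20010402700e,
  0x8090c0009304010d812040d10,
  0x3100098d00822f140280009,
  0x4c460a116c000232004400022,
  0x2f4200216814016080000125,
  0x40c2c22010850090009521600,
  0x3426021180228520043c02,
  0x168404104246119088a410000,
  0xc0a002497064210400230801,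
  0xc0c091104800858728000020c,
  0x84210e200116422104300209,
  0x100e284200c8401040c911082,
  0x2008440000660000c3902f890,
  0xd0006a00010184042c534042,
  0x480010140023581008c8282a4,
  0xa100018800102409370046058,
  0xa108a104128000c0898830044,
  0x5086001805074424000043098,
  0x8100882842048205400449b2,
  0x2003228d048100005050220e1,
  0x1080b48200010c0029b1001d0,
  0x31400182e01250c00c20422,
  0xa04e404142c4228c000002009,
  0x204aa9023c00040c101201810,
  0x91a6100d008810800031886,
  0x2001c601680000c9a23480040,
  0x280640023213200040ac40070,
  0x84080900c8488348860014802,
  0x8150aac10080804a300100502,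
  0x21310228180842344800066,
  0x2950849106250001080620018,
  0x50088805c4a48014881080180,
  0x848622081918048a002110041,
  0x4900822435010c031000c0144,
  0xc00141029120d21062208810,
  0x2240098240e0204028d404220,
  0x40000a0808088c2032518d280,
  0x80005040005831c023a908600,
  0x130000e402a57000418042500,
  0x100114d14060902026400208a,
  0x8090008880c4d000090134289,
  0x130200811114800510b29410,
  0x234426502011048020c00b004,
  0x2800122101a4d00018055a04,
  0xc500021d0104928182002a400,
  0xf444020850012820050501a,
  0x848d46262200150008000906,
  0x28402290882048511184141,
  0xa014281908400004ac28080b0,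
  0x44a001089c020801881424070,
  0x402c4000390a0394800889004,
  0x814464101051030402188181,
  0x10281102826261040d0a00018,
  0xc002090c90886206100840620,
  0xa154200313108101002204d,
  0x23140a0814840208c004d5000,
  0x48004020c02633210204c4208,
  0x1700299c0400cc020c4210000,
  0x6240008005a722044400e021,
  0xcd4c08001004650008810c110,
  0x330040000209941ad008c104,
  0x191a480208841131220e00,
  0x291029800111823202440620,
  0x540a1124600a248002d002040,
  0xa8028ad44004040002a050a80,
  0x1001000c810a1800c728d00c0,
  0x2908084520202240564a88000,
  0x835002c84a0034003000aa1,
  0xc80ad001890000001209200da,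
  0x2011c04200a100043108c128c,
  0x12a1210800c8808ca11003400,
  0xa85042001810024110002ca25,
  0x54a010208108d932000100502,
  0x221124c202500048452210801,
  0x1221042224230830405681000]

end Cfsg.Agent.HNSub
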