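import Cfsg.Agent.HNSub.Perm100
import Cfsg.Agent.HNSub.GraphData
import Cfsg.Agent.HSRankThree.Iso

/-!
# The even part of the group on 100 points is the Higman–Sims group
-/

set_option autoImplicit false
set_option maxRecDepth 100000

namespace Cfsg.Agent.HNSub

open Cfsg.Agent.Compute

/-- Adjacency of two points. -/
def adjB (i j : Fin 100) : Bool := (adjMasks.getD i.val 0).testBit j.val

theorem adjB_symm : ∀ i j : Fin 100, adjB i j = adjB j i := by decide +kernel

theorem adjB_irrefl : ∀ i : Fin 100, adjB i i = false := by decide +kernel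

/-- The graph on 100 points. -/
def gamma : SimpleGraph (Fin 100) where
  Adj i j := adjB i j = true
  symm := ⟨fun i j h => by rwa [adjB_symm]⟩
  loopless := ⟨fun i h => by rw [adjB_irrefl i] at h; simp at h⟩

instance : DecidableRel gamma.Adj := fun i j => inferInstanceAs (Decidable (adjB i j = true))

/-- The number of set bits below 100. -/
def popc (m : Nat) : Nat := ((List.finRange 100).filter fun j => m.testBit j.val).length

theorem popc_eq (m : Nat) (p : Fin 100 → Prop) [DecidablePred p]
    (h : ∀ j, p j ↔ m.testBit j.val = true) : (Finset.univ.filter p).card = popc m := by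
  rw [Finset.filter_congr (q := fun j : Fin 100 => m.testBit j.val = true) fun j _ => h j]
  simp [popc, Finset.card, Finset.filter, Fin.univ_def]

theorem deg_check : ((List.finRange 100).all fun v => popc (adjMasks.getD v.val 0) == 22) = true := by
  decide +kernel

theorem common_check : ((List.finRange 100).all fun v => (List.finRange 100).all fun w =>
    v == w || popc (adjMasks.getD v.val 0 &&& adjMasks.getD w.val 0) ==
      cond (adjB v w) 0 6) = true := by
  decide +kernel

theorem gamma_srg : gamma.IsSRGWith 100 22 0 6 := by
  have hcn : ∀ v w, v ≠ w → Fintype.card (gamma.commonNeighbors v w) = cond (adjB v w) 0 6 := by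
    intro v w hvw
    have h := List.all_eq_true.1 (List.all_eq_true.1 common_check v (List.mem_finRange v)) w
      (List.mem_finRange w)
    simp only [Bool.or_eq_true, beq_iff_eq, hvw, false_or] at h
    rw [← h, ← popc_eq _ (fun j => j ∈ gamma.commonNeighbors v w) fun j => by
      simp [SimpleGraph.mem_commonNeighbors, gamma, adjB, Nat.testBit_and]]
    exact Fintype.card_subtype _
  refine ⟨by simp, fun v => ?_, fun v w h => ?_, fun v w hvw h => ?_⟩
  · have h := List.all_eq_true.1 deg_check v (List.mem_finRange v)
    rw [beq_iff_eq] at h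
    rw [← h, ← popc_eq _ (fun j => gamma.Adj v j) fun j => by simp [gamma, adjB],
      ← SimpleGraph.card_neighborFinset_eq_degree, SimpleGraph.neighborFinset_eq_filter]
  · rw [hcn v w h.ne, show adjB v w = true from h]
    rfl
  · rw [hcn v w hvw, Bool.eq_false_iff.2 h]
    rfl

theorem pres_check : ((List.range 3).all fun b => (List.finRange 100).all fun i =>
    (List.finRange 100).all fun j =>
      (adjMasks.getD (getField 7 (genCodes.getD b rep100.one) i.val) 0).testBit
        (getField 7 (genCodes.getD b rep100.one) j.val) == adjB i j) = true := by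
  decide +kernel

theorem grp100_pres {g : Equiv.Perm (Fin 100)} (hg : g ∈ grp100) :
    ∀ i j, gamma.Adj (g i) (g j) ↔ gamma.Adj i j := by
  rw [grp100] at hg
  induction hg using Subgroup.closure_induction with
  | mem g hg =>
    obtain ⟨b, rfl⟩ := hg
    intro i j
    have h := List.all_eq_true.1 (List.all_eq_true.1
      (List.all_eq_true.1 pres_check b.val (List.mem_range.2 b.isLt)) i (List.mem_finRange i)) j
      (List.mem_finRange j)
    rw [beq_iff_eq] at h
    have hp : ∀ i : Fin 100, (perm100 b i).val = getField 7 (genCodes.getD b.val rep100.one) i.val :=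
      fun i => congrArg Fin.val (denPerm_apply (Equiv.refl (Fin 100)) (gen_ok b) i)
    show adjB (perm100 b i) (perm100 b j) = true ↔ adjB i j = true
    rw [← h, adjB, hp, hp]
  | one => intro i j; rfl
  | mul g k _ _ ihg ihk => intro i j; exact (ihg _ _).trans (ihk i j)
  | inv g _ ih =>
    intro i j
    have := ih (g⁻¹ i) (g⁻¹ j)
    simp only [Equiv.Perm.coe_inv, Equiv.apply_symm_apply] at this
    exact this.symm

/-- The even permutations in the group. -/
noncomputable def grp100Even : Subgroup (Equiv.Perm (Fin 100)) := grp100 ⊓ Equiv.Perm.sign.ker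

/-- The action of the even part on the graph. -/
noncomputable def toGraphAut : grp100Even →* (gamma ≃g gamma) where
  toFun g := ⟨g.1, fun {i j} => grp100_pres g.2.1 i j⟩
  map_one' := RelIso.ext fun _ => rfl
  map_mul' _ _ := RelIso.ext fun _ => rfl

theorem card_grp100Even : Nat.card grp100Even = 44352000 := by
  have hz : perm100 2 ∈ grp100 := Subgroup.subset_closure ⟨2, rfl⟩
  let f : grp100 →* ℤˣ := Equiv.Perm.sign.comp grp100.subtype
  have hf : Function.Surjective f := by
    intro u
    rcases Int.units_eq_one_or u with rfl | rfl
    · exact ⟨1, map_one f⟩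
    · exact ⟨⟨_, hz⟩, sign_z⟩
  have h1 := f.ker.card_mul_index
  rw [Subgroup.index_ker, f.range_eq_top_of_surjective hf, Subgroup.card_top, card_grp100,
    Nat.card_eq_fintype_card (α := ℤˣ), Fintype.card_units_int] at h1
  have h2 : Nat.card f.ker = Nat.card grp100Even := by
    rw [← Subgroup.card_map_of_injective (f := grp100.subtype) (Subgroup.subtype_injective _)]
    congr 2
    ext g
    simp [grp100Even, f, MonoidHom.mem_ker, and_comm]
  omega

theorem grp100Even_iso : Nonempty (↥grp100Even ≃* ↥Cfsg.Spor.HS) := by
  have hinj : Function.Injective toGraphAut := fun g k h =>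
    Subtype.ext (Equiv.ext fun i => by
      exact congrArg (fun e : gamma ≃g gamma => e i) h)
  have hc : Nat.card toGraphAut.range = 44352000 := by
    rw [← Nat.card_congr (MonoidHom.ofInjective hinj).toEquiv, card_grp100Even]
  obtain ⟨e⟩ := Cfsg.Agent.HSRankThree.isoHS_of_card gamma_srg 0 _ hc
  exact ⟨(MonoidHom.ofInjective hinj).trans e⟩

end Cfsg.Agent.HNSub
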