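import Cfsg.Agent.HNSub.Kill

/-!
# Injectivity of the action on 100 points
-/

set_option autoImplicit false
set_option maxRecDepth 100000

namespace Cfsg.Agent.HNSub

open Cfsg.Agent.CosetCert
open scoped commutatorElement

theorem dB_le_dB2_sup (hcard : Nat.card phiB.ker = 3) {d : Pb} (hd : d ∈ dB) :
    d ^ 3 ∈ ⁅dB, dB⁆ := by
  have h : phiB d ∈ (⁅dB, dB⁆).map phiB := by
    rw [map_dB2, ← map_dB]; exact ⟨d, hd, rfl⟩
  obtain ⟨e, he, hed⟩ := h
  have hw : e⁻¹ * d ∈ phiB.ker := by
    rw [MonoidHom.mem_ker, map_mul, map_inv, hed, inv_mul_cancel]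
  have hec : e ∈ dB := (Subgroup.commutator_le_self dB) he
  have hc : Commute e (e⁻¹ * d) := dB_comm_ker hcard hec hw
  rw [show d = e * (e⁻¹ * d) by group, hc.mul_pow, ker_cube hcard hw, mul_one]
  exact pow_mem he 3

theorem dB_le_dB2 (hcard : Nat.card phiB.ker = 3) : dB ≤ ⁅dB, dB⁆ := by
  let N : Subgroup Pb := ⁅dB, dB⁆
  have : N.Normal := Subgroup.commutator_normal dB dB
  let π : Pb →* Pb ⧸ N := QuotientGroup.mk' N
  have hπ : ∀ {g : Pb}, g ∈ N → π g = 1 := fun h => (QuotientGroup.eq_one_iff _).2 h
  have hx : qgen 0 ∈ dB := by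
    have := mem_dB (w := [(0, true)]) (by decide +kernel)
    simpa [wval] using this
  have hy : qgen 1 ∈ dB := by
    have := mem_dB (w := [(1, true)]) (by decide +kernel)
    simpa [wval] using this
  have x3 : π (qgen 0) ^ 3 = 1 := by rw [← map_pow]; exact hπ (dB_le_dB2_sup hcard hx)
  have y3 : π (qgen 1) ^ 3 = 1 := by rw [← map_pow]; exact hπ (dB_le_dB2_sup hcard hy)
  have hrel : ∀ {l : List (Fin 3 × Bool)}, l ∈ C352.relWords →
      wval (fun b => π (qgen b)) l = 1 := fun hl => by
    rw [← map_wval, qgen_rel hl, map_one]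
  have hxx : π (qgen 0) * π (qgen 0) = 1 := by
    have h := hrel (l := [(0, true), (0, true)]) (by decide +kernel)
    simpa only [wval, cond_true, mul_one] using h
  have hx1 : π (qgen 0) = 1 := by
    rwa [pow_succ, pow_two, hxx, one_mul] at x3
  have hy1 : π (qgen 1) = 1 := by
    have h := hrel (l := (List.replicate 8 [((0 : Fin 3), true), (1, true)]).flatten)
      (by decide +kernel)
    simp only [List.replicate, List.flatten_cons, List.flatten_nil, List.cons_append,
      List.nil_append, wval, cond_true, hx1, one_mul, mul_one] at h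
    have h8 : π (qgen 1) ^ 8 = 1 := by
      rw [← h]; simp only [pow_succ, pow_zero, one_mul, mul_assoc]
    have h9 : π (qgen 1) ^ 9 = 1 := by rw [show 9 = 3 * 3 from rfl, pow_mul, y3, one_pow]
    rwa [pow_succ, h8, one_mul] at h9
  have hall : ∀ g : Pb, π g ∈ Subgroup.zpowers (π (qgen 2)) := by
    intro g
    have hg : g ∈ (⊤ : Subgroup Pb) := trivial
    rw [← PresentedGroup.closure_range_of] at hg
    induction hg using Subgroup.closure_induction with
    | mem g hg =>
      obtain ⟨b, rfl⟩ := hg
      show π (qgen b) ∈ _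
      fin_cases b
      · simp only [Fin.zero_eta, Fin.isValue, hx1, one_mem]
      · simp only [Fin.mk_one, Fin.isValue, hy1, one_mem]
      · exact Subgroup.mem_zpowers _
    | one => simp
    | mul a b _ _ ha hb => rw [map_mul]; exact mul_mem ha hb
    | inv a _ ha => rw [map_inv]; exact inv_mem ha
  show commutator Pb ≤ N
  rw [commutator_def, Subgroup.commutator_le]
  intro g _ k _
  refine (QuotientGroup.eq_one_iff _).1 ?_
  show π ⁅g, k⁆ = 1
  obtain ⟨i, hi⟩ := hall g
  obtain ⟨j, hj⟩ := hall k
  rw [commutatorElement_def, map_mul, map_mul, map_mul, map_inv, map_inv, ← hi, ← hj]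
  group

theorem ker_le_dB (hcard : Nat.card phiB.ker = 3) {w : Pb} (hw : w ∈ phiB.ker) : w ∈ dB := by
  have h : w = (w * w) * (w * w) := by
    have := ker_cube hcard hw
    calc w = w ^ 3 * w := by rw [this, one_mul]
      _ = (w * w) * (w * w) := by simp [pow_succ, mul_assoc]
  rw [h]
  exact mul_mem (sq_mem_dB w) (sq_mem_dB w)

theorem not_three : Nat.card phiB.ker ≠ 3 := by
  intro hcard
  classical
  have := finite_Pb
  obtain ⟨⟨w, hw⟩, hw1⟩ : ∃ w : phiB.ker, w ≠ 1 := by
    by_contra h
    push Not at h
    have : Subsingleton phiB.ker := ⟨fun a b => by rw [h a, h b]⟩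
    rw [Nat.card_unique] at hcard
    omega
  have hw1' : w ≠ 1 := fun e => hw1 (Subtype.ext e)
  let C : Subgroup Pb := Subgroup.centralizer {w}
  have hdC : dB ≤ C := fun d hd =>
    Subgroup.mem_centralizer_singleton_iff.2 (dB_comm_ker hcard hd hw)
  have hwD : w ∈ dB := ker_le_dB hcard hw
  let S : Set Pb := {eA, eB, w}
  let A : Subgroup Pb := Subgroup.closure S
  have hS : ∀ p ∈ S, ∀ q ∈ S, q * p = p * q := by
    have ca := dB_comm_ker hcard eA_mem hw
    have cb := dB_comm_ker hcard eB_mem hw
    have cab := eA_eB_comm hcard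
    intro p hp q hq
    simp only [S, Set.mem_insert_iff, Set.mem_singleton_iff] at hp hq
    rcases hp with rfl | rfl | rfl <;> rcases hq with rfl | rfl | rfl <;>
      first | rfl | exact ca | exact ca.symm | exact cb | exact cb.symm | exact cab | exact cab.symm
  have hAA : ∀ p ∈ A, ∀ q ∈ A, p * q = q * p := by
    have h1 : A ≤ Subgroup.centralizer S :=
      (Subgroup.closure_le _).2 fun q hq => Subgroup.mem_centralizer_iff.2 fun p hp =>
        (hS p hp q hq).symm
    have h2 : A ≤ Subgroup.centralizer (A : Set Pb) :=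
      (Subgroup.closure_le _).2 fun q hq => Subgroup.mem_centralizer_iff.2 fun p hp =>
        ((Subgroup.mem_centralizer_iff.1 (h1 hp)) q hq).symm
    exact fun p hp q hq => (Subgroup.mem_centralizer_iff.1 (h2 hq)) p hp
  have hA3 : ∀ p ∈ A, p ^ 3 = 1 := by
    intro p hp
    induction hp using Subgroup.closure_induction with
    | mem p hp =>
      simp only [S, Set.mem_insert_iff, Set.mem_singleton_iff] at hp
      rcases hp with rfl | rfl | rfl
      · exact eA_cube
      · exact eB_cube
      · exact ker_cube hcard hw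
    | one => exact one_pow 3
    | mul p q hp hq ihp ihq =>
      rw [(show Commute p q from hAA p hp q hq).mul_pow, ihp, ihq, one_mul]
    | inv p _ ih => rw [inv_pow, ih, inv_one]
  have hAC : A ≤ C := (Subgroup.closure_le _).2 (by
    rintro p (rfl | rfl | rfl)
    · exact hdC eA_mem
    · exact hdC eB_mem
    · exact Subgroup.mem_centralizer_singleton_iff.2 rfl)
  have haA : eA ∈ A := Subgroup.subset_closure (Set.mem_insert _ _)
  have hbA : eB ∈ A := Subgroup.subset_closure (Set.mem_insert_of_mem _ (Set.mem_insert _ _))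
  have hwA : w ∈ A := Subgroup.subset_closure
    (Set.mem_insert_of_mem _ (Set.mem_insert_of_mem _ rfl))
  have hkA : phiB.ker ≤ A := by
    intro v hv
    by_cases hv1 : v = 1
    · rw [hv1]; exact one_mem A
    rcases ker_cases hcard hw hw1' hv hv1 with rfl | rfl
    · exact hwA
    · exact inv_mem hwA
  have hAcard : ∃ k, Nat.card A = 3 ^ k := by
    have : Fact (Nat.Prime 3) := ⟨by norm_num⟩
    refine IsPGroup.iff_card.1 fun p => ⟨1, ?_⟩
    exact Subtype.ext (by rw [pow_one, Subgroup.coe_pow, hA3 p.1 p.2, OneMemClass.coe_one])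
  have h27 : Nat.card A = 27 := by
    obtain ⟨k, hk⟩ := hAcard
    have hd : Nat.card A ∣ 266112000 :=
      (Subgroup.card_subgroup_dvd_card A).trans card_Pb_dvd
    have h12 : 12 ≤ Nat.card A := by
      have hm : Nat.card A = Nat.card phiB.ker * Nat.card (A.map phiB) := by
        let f : A →* Equiv.Perm (Fin 100) := phiB.comp A.subtype
        have hr : f.range = A.map phiB := by
          ext g
          simp [f, MonoidHom.mem_range]
        have hker : f.ker.map A.subtype = phiB.ker := by
          ext g
          constructor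
          · rintro ⟨a, ha, rfl⟩; exact ha
          · intro hg; exact ⟨⟨g, hkA hg⟩, hg, rfl⟩
        rw [← hr, ← Subgroup.index_ker, ← hker,
          Subgroup.card_map_of_injective (Subgroup.subtype_injective A), Subgroup.card_mul_index]
      have h4 : 4 ≤ Nat.card (A.map phiB) := by
        let P : Fin 4 → Pb := ![1, eA, eA * eA, eB]
        have hP : ∀ i, P i ∈ A := by
          intro i
          fin_cases i
          · exact one_mem A
          · exact haA
          · exact mul_mem haA haA
          · exact hbA
        have hW : ∀ i, phiB (P i) = rep100.den (wordCode (![[], wordA, wordA ++ wordA, wordB] i)) := by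
          intro i
          rw [← phiB_wval]
          fin_cases i
          · rfl
          · rfl
          · show phiB (eA * eA) = phiB (wval qgen (wordA ++ wordA))
            rw [wval_append]
            rfl
          · rfl
        have hinj : Function.Injective fun i : Fin 4 =>
            (⟨phiB (P i), Subgroup.mem_map_of_mem phiB (hP i)⟩ : A.map phiB) := by
          intro i j hij
          by_contra hne
          have hd : ∀ i j : Fin 4, i ≠ j →
              Cfsg.Agent.Compute.getField 7 (wordCode (![[], wordA, wordA ++ wordA, wordB] i)) 0 ≠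
              Cfsg.Agent.Compute.getField 7 (wordCode (![[], wordA, wordA ++ wordA, wordB] j)) 0 := by
            decide +kernel
          apply phiB_ne 0 (hd i j hne)
          rw [phiB_wval, phiB_wval, ← hW, ← hW]
          exact congrArg Subtype.val hij
        simpa using Nat.card_le_card_of_injective _ hinj
      rw [hm, hcard]
      omega
    rw [hk] at hd h12 ⊢
    have hk4 : k < 4 := by
      by_contra h
      have := (pow_dvd_pow 3 (Nat.le_of_not_lt h)).trans hd
      norm_num at this
    interval_cases k <;> (revert h12; norm_num)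
  -- the transfer from the centralizer of the kernel into the abelian subgroup
  let Ac : Subgroup C := A.subgroupOf C
  let : CommGroup Ac :=
    { (inferInstance : Group Ac) with
      mul_comm := fun p q => Subtype.ext (Subtype.ext (hAA p.1.1 p.2 q.1.1 q.2)) }
  let φ : C →* Ac := MonoidHom.transfer (MonoidHom.id Ac)
  let wc : C := ⟨w, hAC hwA⟩
  have hcent : ∀ g₀ : C, Commute g₀ wc := fun g₀ =>
    Subtype.ext (Subgroup.mem_centralizer_singleton_iff.1 g₀.2)
  have key : ∀ (k : ℕ) (g₀ : C), g₀⁻¹ * wc ^ k * g₀ ∈ Ac → g₀⁻¹ * wc ^ k * g₀ = wc ^ k := by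
    intro k g₀ _
    rw [mul_assoc, ← ((hcent g₀).pow_right k).eq, inv_mul_cancel_left]
  have hφ : φ wc = 1 := by
    have hwN : wc ∈ commutator C := by
      have h2 : ⁅dB.subgroupOf C, dB.subgroupOf C⁆.map C.subtype = ⁅dB, dB⁆ := by
        rw [Subgroup.map_commutator, Subgroup.subgroupOf_map_subtype, inf_eq_left.2 hdC]
      have hw2 : w ∈ ⁅dB, dB⁆ := dB_le_dB2 hcard hwD
      rw [← h2] at hw2
      obtain ⟨v, hv, hve⟩ := hw2
      have : v = wc := Subtype.ext hve
      rw [← this, commutator_def]
      exact Subgroup.commutator_mono le_top le_top hv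
    exact Abelianization.commutator_subset_ker φ hwN
  have ht := MonoidHom.transfer_eq_pow (MonoidHom.id Ac) wc key
  rw [show MonoidHom.transfer (MonoidHom.id Ac) wc = φ wc from rfl, hφ] at ht
  have hpow : w ^ Ac.index = 1 := by
    have h := congrArg (fun p : Ac => (p.1.1 : Pb)) ht
    simpa [wc] using h.symm
  have hidx : Ac.index ∣ 9856000 := by
    have h1 := Ac.card_mul_index
    rw [Nat.card_congr (Subgroup.subgroupOfEquivOfLe hAC).toEquiv, h27] at h1
    have h2 : Nat.card C ∣ 266112000 :=
      (Subgroup.card_subgroup_dvd_card C).trans card_Pb_dvd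
    rw [← h1, show 266112000 = 27 * 9856000 by norm_num] at h2
    exact (Nat.mul_dvd_mul_iff_left (by norm_num)).1 h2
  apply hw1'
  have h1 : orderOf w ∣ 3 := orderOf_dvd_of_pow_eq_one (ker_cube hcard hw)
  have h2 : orderOf w ∣ 9856000 := (orderOf_dvd_of_pow_eq_one hpow).trans hidx
  have := Nat.dvd_gcd h1 h2
  rw [show Nat.gcd 3 9856000 = 1 by norm_num, Nat.dvd_one] at this
  exact orderOf_eq_one_iff.1 this

/-- The action on 100 points is faithful. -/
theorem phiB_injective : Function.Injective phiB := by
  have := finite_Pb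
  rw [← MonoidHom.ker_eq_bot_iff]
  have h := phiB.ker.card_mul_index
  rw [Subgroup.index_ker, phiB_range, card_grp100] at h
  have hd := card_Pb_dvd
  rw [← h, show 266112000 = 3 * 88704000 by norm_num] at hd
  rcases (Nat.dvd_prime (by norm_num)).1 ((Nat.mul_dvd_mul_iff_right (by norm_num)).1 hd) with h1 | h1
  · exact Subgroup.card_eq_one.1 h1
  · exact absurd h1 not_three

end Cfsg.Agent.HNSub
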