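import Cfsg.Agent.HNSub.Order
import Cfsg.Agent.HNSub.Hs100

/-!
# The presented group with `x * x = 1` is the group on 100 points

The kernel has order dividing three; a transfer into an abelian Sylow subgroup kills it.
-/

set_option autoImplicit false
set_option maxRecDepth 100000

namespace Cfsg.Agent.HNSub

open Cfsg.Agent.CosetCert
open scoped commutatorElement

/-- The exponent sum of a generator in a word. -/
def esum (i : Fin 3) (w : List (Fin 3 × Bool)) : ℤ :=
  (w.map fun a => if a.1 = i then (if a.2 then 1 else -1) else 0).sum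

theorem wval_comm {G : Type*} [CommGroup G] (f : Fin 3 → G) :
    ∀ w : List (Fin 3 × Bool), wval f w = f 0 ^ esum 0 w * f 1 ^ esum 1 w * f 2 ^ esum 2 w
  | [] => by simp [wval, esum]
  | (b, e) :: w => by
    have ih := wval_comm f w
    simp only [wval, ih, esum, List.map_cons, List.sum_cons, zpow_add]
    fin_cases b <;> cases e <;>
      simp [mul_assoc, mul_comm, mul_left_comm]

theorem map_wval {β G H : Type*} [Group G] [Group H] (φ : G →* H) (f : β → G) :
    ∀ w : List (β × Bool), φ (wval f w) = wval (fun b => φ (f b)) w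
  | [] => map_one φ
  | (b, e) :: w => by
    cases e <;> simp [wval, map_wval φ f w]

theorem wval_append {β G : Type*} [Group G] (f : β → G) :
    ∀ v w : List (β × Bool), wval f (v ++ w) = wval f v * wval f w
  | [], w => by simp [wval]
  | (b, e) :: v, w => by simp [wval, wval_append f v w, mul_assoc]

theorem wval_invRev {β G : Type*} [Group G] (f : β → G) (w : List (β × Bool)) :
    wval f (FreeGroup.invRev w) = (wval f w)⁻¹ := by
  rw [← lift_wval, ← lift_wval, ← FreeGroup.inv_mk, map_inv]

/-- An element of order three. -/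
def wordA : List (Fin 3 × Bool) := [(0, false), (1, false), (0, true), (1, true)]

/-- A conjugating word. -/
def wordH : List (Fin 3 × Bool) := [(1, true), (0, true), (1, false), (0, true), (1, false), (1, false), (0, true), (1, true), (0, true), (1, false), (2, true)]

/-- A second element of order three, commuting with the first on 100 points. -/
def wordB : List (Fin 3 × Bool) := wordH ++ wordA ++ FreeGroup.invRev wordH

/-- A word centralising the first and inverting the second on 100 points. -/
def wordG : List (Fin 3 × Bool) := [(0, true), (2, true), (1, false), (1, false), (0, true), (1, true), (1, true), (1, true), (0, true), (1, true), (1, true), (0, true), (2, true)]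

/-- The generators of the presented group. -/
noncomputable def qgen (b : Fin 3) : Pb := PresentedGroup.of b

theorem qgen_rel {l : List (Fin 3 × Bool)} (hl : l ∈ C352.relWords) : wval qgen l = 1 := wval_rel hl

theorem perm100_rels : ∀ r ∈ wordRels C352.relWords, FreeGroup.lift perm100 r = 1 := by
  intro r hr
  obtain ⟨l, hl, rfl⟩ := List.mem_map.1 hr
  have h : (C352.relWords.all fun l => Nat.beq (wordCode l) rep100.one) = true := by decide +kernel
  exact lift_one_of_code (Nat.eq_of_beq_eq_true (List.all_eq_true.1 h l hl))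

/-- The action on 100 points. -/
noncomputable def phiB : Pb →* Equiv.Perm (Fin 100) := PresentedGroup.toGroup perm100_rels

theorem phiB_wval (w : List (Fin 3 × Bool)) : phiB (wval qgen w) = rep100.den (wordCode w) := by
  rw [(wordCode_spec w).2, lift_wval, map_wval]
  congr 1

theorem phiB_range : phiB.range = grp100 := by
  rw [MonoidHom.range_eq_map, ← PresentedGroup.closure_range_of, MonoidHom.map_closure, grp100]
  congr 1
  ext g
  simp only [Set.mem_image, Set.mem_range]
  constructor
  · rintro ⟨_, ⟨b, rfl⟩, rfl⟩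
    exact ⟨b, (PresentedGroup.toGroup.of perm100_rels).symm⟩
  · rintro ⟨b, rfl⟩
    exact ⟨_, ⟨b, rfl⟩, PresentedGroup.toGroup.of perm100_rels⟩

theorem phiB_eq {v w : List (Fin 3 × Bool)} (h : Nat.beq (wordCode v) (wordCode w) = true) :
    phiB (wval qgen v) = phiB (wval qgen w) := by
  rw [phiB_wval, phiB_wval, Nat.eq_of_beq_eq_true h]

theorem phiB_ne {v w : List (Fin 3 × Bool)} (i : Fin 100)
    (h : Cfsg.Agent.Compute.getField 7 (wordCode v) i.val ≠
      Cfsg.Agent.Compute.getField 7 (wordCode w) i.val) :
    phiB (wval qgen v) ≠ phiB (wval qgen w) := by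
  intro e
  rw [phiB_wval, phiB_wval] at e
  apply h
  have hv := congrArg Fin.val (Cfsg.Agent.Compute.denPerm_apply (Equiv.refl (Fin 100))
    (wordCode_spec v).1 i)
  have hw := congrArg Fin.val (Cfsg.Agent.Compute.denPerm_apply (Equiv.refl (Fin 100))
    (wordCode_spec w).1 i)
  have he := congrArg (fun σ : Equiv.Perm (Fin 100) => (σ i).val) e
  exact hv.symm.trans (he.trans hw)

theorem abelian_solve {G : Type*} [Group G] (a b c : G) (ha : a ^ 2 = 1) (hc : c ^ 2 = 1)
    (h4 : a ^ 8 * b ^ 8 = 1) (h3 : b ^ 15 = 1) (h9 : a ^ 3 * c ^ 4 = 1) :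
    a = 1 ∧ b = 1 ∧ c ^ 2 = 1 := by
  rw [show 4 = 2 * 2 from rfl, pow_mul, hc, one_pow, mul_one, show 3 = 2 + 1 from rfl, pow_succ,
    ha, one_mul] at h9
  rw [h9, one_pow, one_mul] at h4
  refine ⟨h9, ?_, hc⟩
  have h16 : b ^ 16 = 1 := by rw [show 16 = 8 * 2 from rfl, pow_mul, h4, one_pow]
  rwa [pow_succ, h3, one_mul] at h16

/-- The images in the abelianisation. -/
theorem abelian_facts :
    Abelianization.of (qgen 0) = 1 ∧ Abelianization.of (qgen 1) = 1 ∧
      Abelianization.of (qgen 2) ^ 2 = 1 := by
  let f : Fin 3 → Abelianization Pb := fun b => Abelianization.of (qgen b)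
  have hr : ∀ l ∈ C352.relWords,
      f 0 ^ esum 0 l * f 1 ^ esum 1 l * f 2 ^ esum 2 l = 1 := by
    intro l hl
    rw [← wval_comm, ← map_wval, qgen_rel hl, map_one]
  have ha : f 0 ^ 2 = 1 := by
    have h := hr [(0, true), (0, true)] (by decide +kernel)
    simpa [esum] using h
  have hc : f 2 ^ 2 = 1 := by
    have h := hr [(2, true), (2, true)] (by decide +kernel)
    simpa [esum] using h
  have h4 := hr [(0, true), (1, true), (0, true), (1, true), (0, true), (1, true), (0, true), (1, true), (0, true), (1, true), (0, true), (1, true), (0, true), (1, true), (0, true), (1, true)] (by decide +kernel)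
  rw [show esum 0 [(0, true), (1, true), (0, true), (1, true), (0, true), (1, true), (0, true), (1, true), (0, true), (1, true), (0, true), (1, true), (0, true), (1, true), (0, true), (1, true)] = 8 from by decide +kernel, show esum 1 [(0, true), (1, true), (0, true), (1, true), (0, true), (1, true), (0, true), (1, true), (0, true), (1, true), (0, true), (1, true), (0, true), (1, true), (0, true), (1, true)] = 8 from by decide +kernel, show esum 2 [(0, true), (1, true), (0, true), (1, true), (0, true), (1, true), (0, true), (1, true), (0, true), (1, true), (0, true), (1, true), (0, true), (1, true), (0, true), (1, true)] = 0 from by decide +kernel] at h4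
  have h3 := hr [(0, false), (1, true), (1, true), (0, true), (1, true), (1, true), (1, true), (0, false), (1, true), (1, true), (0, true), (1, true), (1, true), (1, true), (0, false), (1, true), (1, true), (0, true), (1, true), (1, true), (1, true)] (by decide +kernel)
  rw [show esum 0 [(0, false), (1, true), (1, true), (0, true), (1, true), (1, true), (1, true), (0, false), (1, true), (1, true), (0, true), (1, true), (1, true), (1, true), (0, false), (1, true), (1, true), (0, true), (1, true), (1, true), (1, true)] = 0 from by decide +kernel, show esum 1 [(0, false), (1, true), (1, true), (0, true), (1, true), (1, true), (1, true), (0, false), (1, true), (1, true), (0, true), (1, true), (1, true), (1, true), (0, false), (1, true), (1, true), (0, true), (1, true), (1, true), (1, true)] = 15 from by decide +kernel, show esum 2 [(0, false), (1, true), (1, true), (0, true), (1, true), (1, true), (1, true), (0, false), (1, true), (1, true), (0, true), (1, true), (1, true), (1, true), (0, false), (1, true), (1, true), (0, true), (1, true),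 (1, true), (1, true)] = 0 from by decide +kernel] at h3
  have h9 := hr [(2, true), (1, false), (0, false), (1, false), (0, false), (1, false), (1, false), (1, false), (2, true), (1, true), (1, true), (1, true), (0, true), (1, true), (0, true), (1, true), (0, true), (1, false), (0, false), (1, false), (0, false), (1, false), (1, false), (1, false), (2, true), (1, true), (1, true), (1, true), (0, true), (1, true), (0, true), (1, true), (0, true), (1, false), (0, false), (1, false), (0, false), (1, false), (1, false), (1, false), (2, true), (1, true), (1, true), (1, true), (0, true), (1, true), (0, true), (1, true), (0, true)] (by decide +kernel)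
  rw [show esum 0 [(2, true), (1, false), (0, false), (1, false), (0, false), (1, false), (1, false), (1, false), (2, true), (1, true), (1, true), (1, true), (0, true), (1, true), (0, true), (1, true), (0, true), (1, false), (0, false), (1, false), (0, false), (1, false), (1, false), (1, false), (2, true), (1, true), (1, true), (1, true), (0, true), (1, true), (0, true), (1, true), (0, true), (1, false), (0, false), (1, false), (0, false), (1, false), (1, false), (1, false), (2, true), (1, true), (1, true), (1, true), (0, true), (1, true), (0, true), (1, true), (0, true)] = 3 from by decide +kernel, show esum 1 [(2, true), (1, false), (0, false), (1, false), (0, false), (1, false), (1, false), (1, false), (2, true), (1, true), (1, true), (1, true), (0, true), (1, true), (0, true), (1, true), (0, true), (1, false), (0, false), (1, false), (0, false), (1, false), (1, false), (1, false), (2, true), (1, true), (1, true), (1, true), (0, true), (1, true), (0, true), (1, true), (0, true), (1, false), (0, false), (1, false), (0, false), (1, false),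 (1, false), (1, false), (2, true), (1, true), (1, true), (1, true), (0, true), (1, true), (0, true), (1, true), (0, true)] = 0 from by decide +kernel, show esum 2 [(2, true), (1, false), (0, false), (1, false), (0, false), (1, false), (1, false), (1, false), (2, true), (1, true), (1, true), (1, true), (0, true), (1, true), (0, true), (1, true), (0, true), (1, false), (0, false), (1, false), (0, false), (1, false), (1, false), (1, false), (2, true), (1, true), (1, true), (1, true), (0, true), (1, true), (0, true), (1, true), (0, true), (1, false), (0, false), (1, false), (0, false), (1, false), (1, false), (1, false), (2, true), (1, true), (1, true), (1, true), (0, true), (1, true), (0, true), (1, true), (0, true)] = 4 from by decide +kernel] at h9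
  simp only [zpow_neg, zpow_ofNat, zpow_zero, mul_one, one_mul, pow_zero] at h4 h3 h9
  exact abelian_solve (f 0) (f 1) (f 2) ha hc h4 h3 h9

/-- The derived subgroup. -/
noncomputable abbrev dB : Subgroup Pb := commutator Pb

theorem mem_dB {w : List (Fin 3 × Bool)} (h : esum 2 w % 2 = 0) : wval qgen w ∈ dB := by
  obtain ⟨h0, h1, h2⟩ := abelian_facts
  show wval qgen w ∈ commutator Pb
  rw [← Abelianization.ker_of, MonoidHom.mem_ker, map_wval, wval_comm]
  obtain ⟨k, hk⟩ := Int.dvd_of_emod_eq_zero h
  rw [h0, h1, one_zpow, one_zpow, one_mul, one_mul, hk, zpow_mul]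
  norm_cast
  rw [h2, one_zpow]

theorem sq_mem_dB (g : Pb) : g * g ∈ dB := by
  show g * g ∈ commutator Pb
  obtain ⟨h0, h1, h2⟩ := abelian_facts
  have hg : g ∈ (⊤ : Subgroup Pb) := trivial
  rw [← PresentedGroup.closure_range_of] at hg
  rw [← Abelianization.ker_of, MonoidHom.mem_ker, map_mul]
  induction hg using Subgroup.closure_induction with
  | mem g hg =>
    obtain ⟨b, rfl⟩ := hg
    show Abelianization.of (qgen b) * Abelianization.of (qgen b) = 1
    fin_cases b
    · simp only [Fin.zero_eta, Fin.isValue, h0, one_mul]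
    · simp only [Fin.mk_one, Fin.isValue, h1, one_mul]
    · simpa [pow_two] using h2
  | one => simp
  | mul a b _ _ iha ihb => rw [map_mul, mul_mul_mul_comm, iha, ihb, one_mul]
  | inv a _ ih => rw [map_inv, ← mul_inv, ih, inv_one]

theorem conj_invariant_eq {H : Subgroup (Equiv.Perm (Fin 100))} (hle : H ≤ grp100Even)
    (hn : ∀ g ∈ grp100Even, ∀ h ∈ H, g * h * g⁻¹ ∈ H) (hne : H ≠ ⊥) : H = grp100Even := by
  obtain ⟨e⟩ := grp100Even_iso
  have : IsSimpleGroup ↥Cfsg.Spor.HS := Cfsg.Agent.HigSims.card_and_simple.2
  have : IsSimpleGroup ↥grp100Even := MulEquiv.isSimpleGroup e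
  have hN : (H.subgroupOf grp100Even).Normal := ⟨fun h hh g => hn g.1 g.2 h.1 hh⟩
  rcases hN.eq_bot_or_eq_top with h | h
  · exfalso
    apply hne
    rw [eq_bot_iff]
    intro x hx
    have : (⟨x, hle hx⟩ : grp100Even) ∈ H.subgroupOf grp100Even := hx
    rw [h, Subgroup.mem_bot] at this
    simpa using congrArg Subtype.val this
  · exact le_antisymm hle fun x hx => by
      have : (⟨x, hx⟩ : grp100Even) ∈ H.subgroupOf grp100Even := by rw [h]; trivial
      exact this

/-- The elements used in the transfer. -/
noncomputable def eA : Pb := wval qgen wordA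

/-- The elements used in the transfer. -/
noncomputable def eB : Pb := wval qgen wordB

/-- The elements used in the transfer. -/
noncomputable def eG : Pb := wval qgen wordG

theorem eA_mem : eA ∈ dB := mem_dB (by decide +kernel)

theorem eB_mem : eB ∈ dB := mem_dB (by decide +kernel)

theorem eG_mem : eG ∈ dB := mem_dB (by decide +kernel)

theorem eA_cube : eA ^ 3 = 1 := by
  have h := qgen_rel (l := wordA ++ (wordA ++ wordA)) (by decide +kernel)
  rw [wval_append, wval_append] at h
  rw [pow_succ, pow_two, mul_assoc]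
  exact h

theorem eB_eq : eB = wval qgen wordH * eA * (wval qgen wordH)⁻¹ := by
  rw [eB, wordB, wval_append, wval_append, wval_invRev]
  rfl

theorem eB_cube : eB ^ 3 = 1 := by
  rw [eB_eq, conj_pow, eA_cube, mul_one, mul_inv_cancel]

theorem map_dB_le : dB.map phiB ≤ grp100Even := by
  rw [Subgroup.map_le_iff_le_comap]
  intro d hd
  refine ⟨by rw [← phiB_range]; exact ⟨d, rfl⟩, ?_⟩
  exact Abelianization.commutator_subset_ker (Equiv.Perm.sign.comp phiB) hd

theorem eA_ne : phiB eA ≠ 1 := by
  intro e
  exact (by
    apply phiB_ne (v := wordA) (w := []) (0 : Fin 100) (by decide +kernel)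
    show phiB eA = phiB (wval qgen [])
    rw [e, show wval qgen [] = 1 from rfl, map_one] : False)

theorem map_dB : dB.map phiB = grp100Even := by
  refine conj_invariant_eq map_dB_le ?_ ?_
  · rintro g hg _ ⟨d, hd, rfl⟩
    obtain ⟨p, rfl⟩ : g ∈ phiB.range := by rw [phiB_range]; exact hg.1
    exact ⟨p * d * p⁻¹, Subgroup.Normal.conj_mem inferInstance d hd p, by simp⟩
  · intro h
    have : phiB eA ∈ dB.map phiB := ⟨eA, eA_mem, rfl⟩
    rw [h, Subgroup.mem_bot] at this
    exact eA_ne this

theorem map_dB2 : (⁅dB, dB⁆).map phiB = grp100Even := by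
  rw [Subgroup.map_commutator, map_dB]
  refine conj_invariant_eq ?_ ?_ ?_
  · rw [Subgroup.commutator_le]
    intro g hg h hh
    exact mul_mem (mul_mem (mul_mem hg hh) (inv_mem hg)) (inv_mem hh)
  · intro g hg h hh
    have hg' : MulAut.conj g h ∈ (⁅grp100Even, grp100Even⁆).map (MulAut.conj g).toMonoidHom :=
      ⟨h, hh, rfl⟩
    rw [Subgroup.map_commutator] at hg'
    have hc : grp100Even.map (MulAut.conj g).toMonoidHom ≤ grp100Even := by
      rintro _ ⟨k, hk, rfl⟩
      exact mul_mem (mul_mem hg hk) (inv_mem hg)
    exact Subgroup.commutator_mono hc hc hg'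
  · intro h
    have h1 : ⁅phiB eG, phiB eB⁆ ∈ ⁅grp100Even, grp100Even⁆ :=
      Subgroup.commutator_mem_commutator (map_dB_le ⟨_, eG_mem, rfl⟩) (map_dB_le ⟨_, eB_mem, rfl⟩)
    rw [h, Subgroup.mem_bot, commutatorElement_eq_one_iff_mul_comm, ← map_mul, ← map_mul, eG, eB,
      ← wval_append, ← wval_append] at h1
    exact phiB_ne (0 : Fin 100) (by decide +kernel) h1

section Kernel

variable (hcard : Nat.card phiB.ker = 3)

include hcard

theorem ker_cases {w v : Pb} (hw : w ∈ phiB.ker) (hw1 : w ≠ 1) (hv : v ∈ phiB.ker) (hv1 : v ≠ 1) :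
    v = w ∨ v = w⁻¹ := by
  have : Fact (Nat.Prime 3) := ⟨by norm_num⟩
  have hz : (⟨v, hv⟩ : phiB.ker) ∈ Subgroup.zpowers (⟨w, hw⟩ : phiB.ker) :=
    mem_zpowers_of_prime_card hcard fun e => hw1 (congrArg Subtype.val e)
  obtain ⟨k, hk⟩ := hz
  have h3 : w ^ (3 : ℤ) = 1 := by
    have h := pow_card_eq_one' (x := (⟨w, hw⟩ : phiB.ker))
    rw [hcard] at h
    rw [show (3 : ℤ) = ((3 : ℕ) : ℤ) from rfl, zpow_natCast]
    exact congrArg Subtype.val h
  have hk' : w ^ (k % 3) = v := by
    have h := congrArg Subtype.val hk
    simp only [SubgroupClass.coe_zpow] at h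
    rw [← h]
    conv_rhs => rw [← Int.emod_add_mul_ediv k 3, zpow_add, zpow_mul, h3, one_zpow, mul_one]
  have h0 := Int.emod_nonneg k (by norm_num : (3 : ℤ) ≠ 0)
  have h1 := Int.emod_lt_of_pos k (by norm_num : (0 : ℤ) < 3)
  interval_cases (k % 3)
  · rw [zpow_zero] at hk'
    exact absurd hk'.symm hv1
  · exact Or.inl (by rw [← hk', zpow_one])
  · refine Or.inr ?_
    rw [← hk', ← zpow_neg_one, show (2 : ℤ) = -1 + 3 from rfl, zpow_add, h3, mul_one]

theorem ker_cube {w : Pb} (hw : w ∈ phiB.ker) : w ^ 3 = 1 := by
  have h := pow_card_eq_one' (x := (⟨w, hw⟩ : phiB.ker))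
  rw [hcard] at h
  exact congrArg Subtype.val h

theorem dB_comm_ker {d w : Pb} (hd : d ∈ dB) (hw : w ∈ phiB.ker) : d * w = w * d := by
  by_cases hw1 : w = 1
  · rw [hw1, mul_one, one_mul]
  suffices h : dB ≤ Subgroup.centralizer {w} from
    (Subgroup.mem_centralizer_singleton_iff.1 (h hd))
  show commutator Pb ≤ _
  rw [commutator_def, Subgroup.commutator_le]
  intro g _ k _
  rw [Subgroup.mem_centralizer_singleton_iff]
  have hc : ∀ g : Pb, g * w * g⁻¹ = w ∨ g * w * g⁻¹ = w⁻¹ := fun g =>
    ker_cases hcard hw hw1 ((MonoidHom.normal_ker phiB).conj_mem w hw g) fun e => hw1 (by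
      simpa using e)
  have hi : ∀ (g : Pb), g * w⁻¹ * g⁻¹ = (g * w * g⁻¹)⁻¹ := fun g => by group
  have key : ∀ g k : Pb, g * k * w * (g * k)⁻¹ = k * g * w * (k * g)⁻¹ := by
    intro g k
    rw [show g * k * w * (g * k)⁻¹ = g * (k * w * k⁻¹) * g⁻¹ by group,
      show k * g * w * (k * g)⁻¹ = k * (g * w * g⁻¹) * k⁻¹ by group]
    rcases hc g with e1 | e1 <;> rcases hc k with e2 | e2 <;> simp only [e1, e2, hi, inv_inv]
  have h1 := key (g) (k)
  have e : ⁅g, k⁆ * w * ⁅g, k⁆⁻¹ = w := by
    have := key (k⁻¹) (g⁻¹)
    rw [commutatorElement_def]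
    calc g * k * g⁻¹ * k⁻¹ * w * (g * k * g⁻¹ * k⁻¹)⁻¹
        = g * k * (g⁻¹ * k⁻¹ * w * (g⁻¹ * k⁻¹)⁻¹) * (g * k)⁻¹ := by group
      _ = g * k * (k⁻¹ * g⁻¹ * w * (k⁻¹ * g⁻¹)⁻¹) * (g * k)⁻¹ := by rw [this]
      _ = w := by group
  exact mul_inv_eq_iff_eq_mul.1 e

theorem eA_eB_comm : eA * eB = eB * eA := by
  have hu : ∀ {p q : Pb}, phiB p = phiB q → p⁻¹ * q ∈ phiB.ker := fun h => by
    rw [MonoidHom.mem_ker, map_mul, map_inv, h, inv_mul_cancel]
  have e1 : phiB (eA * eB) = phiB (eB * eA) := by
    rw [eA, eB, ← wval_append, ← wval_append]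
    exact phiB_eq (by decide +kernel)
  have e2 : phiB (eG * eA) = phiB (eA * eG) := by
    rw [eA, eG, ← wval_append, ← wval_append]
    exact phiB_eq (by decide +kernel)
  have e3 : phiB (eG * eB) = phiB (eB⁻¹ * eG) := by
    rw [eB, eG, ← wval_invRev, ← wval_append, ← wval_append]
    exact phiB_eq (by decide +kernel)
  set u := (eB * eA)⁻¹ * (eA * eB) with hu_def
  have huk : u ∈ phiB.ker := hu e1.symm
  have ca : ∀ {w : Pb}, w ∈ phiB.ker → eA * w = w * eA := fun h => dB_comm_ker hcard eA_mem h
  have cb : ∀ {w : Pb}, w ∈ phiB.ker → eB * w = w * eB := fun h => dB_comm_ker hcard eB_mem h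
  have cg : ∀ {w : Pb}, w ∈ phiB.ker → eG * w = w * eG := fun h => dB_comm_ker hcard eG_mem h
  set w1 := (eA * eG)⁻¹ * (eG * eA) with hw1
  set w2 := (eB⁻¹ * eG)⁻¹ * (eG * eB) with hw2
  have k1 : w1 ∈ phiB.ker := hu e2.symm
  have k2 : w2 ∈ phiB.ker := hu e3.symm
  have ga : eG * eA * eG⁻¹ = eA * w1 := by
    have h : eG * eA = eA * eG * w1 := by rw [hw1]; group
    rw [h, mul_assoc eA eG w1, cg k1]
    group
  have gb : eG * eB * eG⁻¹ = eB⁻¹ * w2 := by
    have h : eG * eB = eB⁻¹ * eG * w2 := by rw [hw2]; group
    rw [h, mul_assoc eB⁻¹ eG w2, cg k2]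
    group
  have hab : eA * eB = eB * eA * u := by rw [hu_def]; group
  have hab' : eA * eB⁻¹ = eB⁻¹ * eA * u⁻¹ := by
    calc eA * eB⁻¹ = eB⁻¹ * (eB * eA * u) * u⁻¹ * eB⁻¹ := by group
      _ = eB⁻¹ * (eA * eB) * u⁻¹ * eB⁻¹ := by rw [hab]
      _ = eB⁻¹ * eA * (eB * u⁻¹) * eB⁻¹ := by group
      _ = eB⁻¹ * eA * u⁻¹ := by rw [cb (inv_mem huk)]; group
  have c1 : Commute w1 eB⁻¹ := (Commute.inv_right (cb k1).symm)
  have c12 : Commute w1 w2 := by
    rcases eq_or_ne w1 1 with h | h
    · rw [h]; exact Commute.one_left _
    rcases eq_or_ne w2 1 with h' | h'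
    · rw [h']; exact Commute.one_right _
    rcases ker_cases hcard k1 h k2 h' with e | e <;> rw [e]
    exact (Commute.refl _).inv_right
  have c2a : Commute w2 eA := (ca k2).symm
  have huu : u⁻¹ = u := by
    have h1 : (eA * w1) * (eB⁻¹ * w2) = (eB⁻¹ * w2) * (eA * w1) * u := by
      rw [← ga, ← gb]
      calc eG * eA * eG⁻¹ * (eG * eB * eG⁻¹) = eG * (eA * eB) * eG⁻¹ := by group
        _ = eG * (eB * eA * u) * eG⁻¹ := by rw [hab]
        _ = eG * (eB * eA) * (u * eG⁻¹) := by group
        _ = eG * (eB * eA) * (eG⁻¹ * u) := by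
          rw [((show Commute eG u from cg huk).inv_left).eq]
        _ = eG * eB * eG⁻¹ * (eG * eA * eG⁻¹) * u := by group
    have l1 : (eA * w1) * (eB⁻¹ * w2) = eA * eB⁻¹ * (w1 * w2) := by
      rw [mul_assoc, ← mul_assoc w1, c1.eq]; group
    have l2 : (eB⁻¹ * w2) * (eA * w1) = eB⁻¹ * eA * (w1 * w2) := by
      rw [mul_assoc, ← mul_assoc w2, c2a.eq, c12.eq]; group
    have k12 : Commute (w1 * w2) u := by
      rcases eq_or_ne u 1 with h | h
      · rw [h]; exact Commute.one_right _
      rcases eq_or_ne (w1 * w2) 1 with h' | h'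
      · rw [h']; exact Commute.one_left _
      rcases ker_cases hcard huk h (mul_mem k1 k2) h' with e | e <;> rw [e]
      exact (Commute.refl u).inv_left
    rw [l1, l2, hab', mul_assoc (eB⁻¹ * eA) u⁻¹, mul_assoc (eB⁻¹ * eA) (w1 * w2),
      k12.eq] at h1
    exact mul_right_cancel (mul_left_cancel h1)
  have : u = 1 := by
    have h3 := ker_cube hcard huk
    have h2 : u * u = 1 := by nth_rw 1 [← huu]; exact inv_mul_cancel u
    rwa [pow_succ, pow_two, h2, one_mul] at h3
  rw [hab, this, mul_one]

end Kernel

end Cfsg.Agent.HNSub
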