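import Cfsg.Agent.HNSub.C168.Main
import Cfsg.Agent.HNSub.C4500.Main
import Cfsg.Agent.HNSub.C352.Main
import Cfsg.Agent.CosetCert.Chain

/-!
# The order of the presented extension of the Higman–Sims group divides 3 · 88704000

The subgroup on `x, y` has index 352, and there a subgroup of order dividing 168 has index 4500.
-/

set_option autoImplicit false
set_option maxRecDepth 100000

namespace Cfsg.Agent.HNSub

open Cfsg.Agent.CosetCert

section Words

variable {β : Type*} {RL : List (List (β × Bool))}

/-- The element of a word. -/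
def wval {G : Type*} [Group G] (f : β → G) : List (β × Bool) → G
  | [] => 1
  | (b, e) :: w => cond e (f b) (f b)⁻¹ * wval f w

theorem lift_wval {G : Type*} [Group G] (f : β → G) :
    ∀ w : List (β × Bool), FreeGroup.lift f (FreeGroup.mk w) = wval f w
  | [] => by rw [← FreeGroup.one_eq_mk, map_one]; rfl
  | (b, e) :: w => by
    rw [show (b, e) :: w = [(b, e)] ++ w from rfl, ← FreeGroup.mul_mk, map_mul, lift_wval f w]
    cases e <;> simp [wval, FreeGroup.lift_mk]

theorem mk_wval {rels : Set (FreeGroup β)} (w : List (β × Bool)) :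
    PresentedGroup.mk rels (FreeGroup.mk w) = wval (fun b => (PresentedGroup.of b : PresentedGroup rels)) w := by
  rw [← lift_wval]
  exact DFunLike.congr_fun (FreeGroup.ext_hom (PresentedGroup.mk rels)
    (FreeGroup.lift fun b => (PresentedGroup.of b : PresentedGroup rels))
    fun b => by simp [PresentedGroup.of]) _

/-- A relator has value one. -/
theorem wval_rel {l : List (β × Bool)} (hl : l ∈ RL) :
    wval (fun b => (PresentedGroup.of b : PresentedGroup (wordRels RL))) l = 1 := by
  rw [← mk_wval]
  exact PresentedGroup.one_of_mem (List.mem_map_of_mem hl)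

/-- A map on the generators that kills the relators. -/
theorem wordRels_lift {G : Type*} [Group G] (f : β → G) (h : ∀ l ∈ RL, wval f l = 1) :
    ∀ r ∈ wordRels RL, FreeGroup.lift f r = 1 := by
  intro r hr
  obtain ⟨l, hl, rfl⟩ := List.mem_map.1 hr
  rw [lift_wval]
  exact h l hl

end Words

/-- The presented group of order 168. -/
abbrev G168 : Type := PresentedGroup (wordRels C168.relWords)

/-- The presented group on `x, y`, with `x * x = 1`. -/
abbrev HXY : Type := PresentedGroup (wordRels C4500.relWords)

/-- The presented group on `x, y, z`, with `x * x = 1`. -/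
abbrev Pb : Type := PresentedGroup (wordRels C352.relWords)

theorem card_G168 : Nat.card G168 = 168 := by
  have h := C168.index_val
  have h0 : Data.sub (wordRels C168.relWords) C168.subWords = ⊥ := by
    rw [Data.sub, C168.subWords]
    simp
  rw [h0, Subgroup.index_bot] at h
  exact h

section

local notation "gX" => (PresentedGroup.of (0 : Fin 2) : HXY)
local notation "gY" => (PresentedGroup.of (1 : Fin 2) : HXY)

/-- The two generators of the subgroup of index 4500. -/
noncomputable def uv : Fin 2 → HXY
  | 0 => gY * (gX * (gY⁻¹ * gX))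
  | 1 => gX * (gY * (gX * (gY * (gY * (gX * (gY⁻¹ * gX))))))

theorem hxy_val {l : List (Fin 2 × Bool)} (hl : l ∈ C4500.relWords) :
    wval (fun b => (PresentedGroup.of b : HXY)) l = 1 := wval_rel hl

theorem hxy_xx : gX * gX = 1 := by
  have h := hxy_val (l := [(0, true), (0, true)]) (by decide +kernel)
  simpa only [wval, cond_true, mul_one] using h

theorem hxy_inv : gX⁻¹ = gX := inv_eq_of_mul_eq_one_right hxy_xx

theorem hxy_cancel (a : HXY) : gX * (gX * a) = a := by
  rw [← mul_assoc, hxy_xx, one_mul]

theorem uv_rels : ∀ r ∈ wordRels C168.relWords, FreeGroup.lift uv r = 1 := by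
  have e0 := hxy_val (l := [(1, true), (1, true), (1, true), (1, true), (1, true), (1, true)]) (by decide +kernel)
  have e2 := hxy_val (l := [(0, false), (1, false), (0, true), (1, true), (0, false), (1, false), (0, true), (1, true), (0, false), (1, false), (0, true), (1, true)]) (by decide +kernel)
  have e4 := hxy_val (l := [(0, true), (1, true), (0, true), (1, true), (0, true), (1, true), (0, true), (1, true), (0, true), (1, true), (0, true), (1, true), (0, true), (1, true), (0, true), (1, true)]) (by decide +kernel)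
  have e5 := hxy_val (l := [(0, true), (1, true), (0, true), (1, true), (1, true), (1, true), (0, true), (1, true), (0, true), (1, true), (1, true), (1, true), (0, true), (1, true), (0, true), (1, true), (1, true), (1, true), (0, true), (1, true), (0, true), (1, true), (1, true), (1, true)]) (by decide +kernel)
  simp only [wval, cond_true, cond_false, mul_one, hxy_inv] at e0 e2 e4 e5
  have p0 : gY ^ 6 = 1 := by
    rw [← e0]; simp only [pow_succ, pow_zero, one_mul, mul_assoc]
  have p2 : (gX * (gY⁻¹ * (gX * gY))) ^ 3 = 1 := by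
    rw [← e2]; simp only [pow_succ, pow_zero, one_mul, mul_assoc]
  have p4 : (gX * gY) ^ 8 = 1 := by
    rw [← e4]; simp only [pow_succ, pow_zero, one_mul, mul_assoc]
  have p5 : (gX * (gY * (gX * (gY * (gY * gY))))) ^ 4 = 1 := by
    rw [← e5]; simp only [pow_succ, pow_zero, one_mul, mul_assoc]
  have hu : uv 0 = gY * (gX * (gY⁻¹ * (gX * gY))) * gY⁻¹ := by
    simp [uv, mul_assoc]
  have u3 : uv 0 ^ 3 = 1 := by
    rw [hu, conj_pow, p2, mul_one, mul_inv_cancel]
  have hv : uv 1 = (gX * (gY * gX)) * gY ^ 2 * (gX * (gY * gX))⁻¹ := by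
    simp [uv, pow_two, mul_assoc, hxy_inv]
  have v3 : uv 1 ^ 3 = 1 := by
    rw [hv, conj_pow, ← pow_mul, p0, mul_one, mul_inv_cancel]
  have h1 : (uv 0)⁻¹ * uv 1 = (gX * (gY * (gX * gY⁻¹))) * (gX * gY) ^ 2 *
      (gX * (gY * (gX * gY⁻¹)))⁻¹ := by
    simp [uv, pow_two, mul_assoc, hxy_inv, hxy_cancel]
  have h2 : (uv 0)⁻¹ * (uv 1 * uv 1) = (gX * (gY * (gX * gY⁻¹))) *
      (gX * (gY * (gX * (gY * (gY * gY))))) * (gX * (gY * (gX * gY⁻¹)))⁻¹ := by
    simp [uv, mul_assoc, hxy_inv, hxy_cancel]
  have k1 : ((uv 0)⁻¹ * uv 1) ^ 4 = 1 := by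
    rw [h1, conj_pow, ← pow_mul, p4, mul_one, mul_inv_cancel]
  have k2 : ((uv 0)⁻¹ * (uv 1 * uv 1)) ^ 4 = 1 := by
    rw [h2, conj_pow, p5, mul_one, mul_inv_cancel]
  have u3' : ((uv 0)⁻¹) ^ 3 = 1 := by rw [inv_pow, u3, inv_one]
  apply wordRels_lift
  intro l hl
  simp only [C168.relWords, List.mem_cons, List.not_mem_nil, or_false] at hl
  rcases hl with rfl | rfl | rfl | rfl <;>
    simp only [wval, cond_true, cond_false, mul_one]
  · rw [← u3']; simp only [pow_succ, pow_zero, one_mul, mul_assoc]
  · rw [← k2]; simp only [pow_succ, pow_zero, one_mul, mul_assoc]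
  · rw [← v3]; simp only [pow_succ, pow_zero, one_mul, mul_assoc]
  · rw [← k1]; simp only [pow_succ, pow_zero, one_mul, mul_assoc]

theorem card_HXY_dvd : Nat.card HXY ∣ 756000 := by
  let f : G168 →* HXY := PresentedGroup.toGroup uv_rels
  have hr : f.range = Data.sub (wordRels C4500.relWords) C4500.subWords := by
    rw [MonoidHom.range_eq_map, ← PresentedGroup.closure_range_of, MonoidHom.map_closure,
      Data.sub, MonoidHom.map_closure]
    apply congrArg Subgroup.closure
    ext g
    simp only [Set.mem_image, Set.mem_range, Set.mem_ofPred_eq]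
    constructor
    · rintro ⟨_, ⟨i, rfl⟩, rfl⟩
      rw [show f (PresentedGroup.of i) = uv i from PresentedGroup.toGroup.of uv_rels]
      fin_cases i
      · exact ⟨_, List.mem_cons_self, by rw [mk_wval]; simp [wval, uv]⟩
      · exact ⟨_, List.mem_cons_of_mem _ List.mem_cons_self, by rw [mk_wval]; simp [wval, uv]⟩
    · rintro ⟨w, hw, rfl⟩
      simp only [C4500.subWords, List.mem_cons, List.not_mem_nil, or_false] at hw
      rcases hw with rfl | rfl
      · exact ⟨_, ⟨0, rfl⟩, by
          rw [show f (PresentedGroup.of 0) = uv 0 from PresentedGroup.toGroup.of uv_rels, mk_wval]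
          simp [wval, uv]⟩
      · exact ⟨_, ⟨1, rfl⟩, by
          rw [show f (PresentedGroup.of 1) = uv 1 from PresentedGroup.toGroup.of uv_rels, mk_wval]
          simp [wval, uv]⟩
  have hd := Subgroup.card_range_dvd f
  rw [hr, card_G168] at hd
  have hi := C4500.index_val
  rw [← Subgroup.card_mul_index (Data.sub (wordRels C4500.relWords) C4500.subWords), hi]
  calc _ ∣ 168 * 4500 := mul_dvd_mul_right hd _
    _ = 756000 := by norm_num

end

theorem card_Pb_dvd : Nat.card Pb ∣ 266112000 := by
  obtain ⟨ψ, hψ⟩ := exists_rename (rels := wordRels C352.relWords) C4500.relWords Fin.castSucc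
    (by
      intro l hl
      apply PresentedGroup.one_of_mem
      apply List.mem_map_of_mem
      have h : ∀ l ∈ C4500.relWords,
          l.map (fun a => (Fin.castSucc a.1, a.2)) ∈ C352.relWords := by decide +kernel
      exact h l hl)
  have hr : ψ.range = Data.sub (wordRels C352.relWords) C352.subWords := by
    rw [MonoidHom.range_eq_map, ← PresentedGroup.closure_range_of, MonoidHom.map_closure,
      Data.sub, MonoidHom.map_closure]
    apply congrArg Subgroup.closure
    ext g
    simp only [Set.mem_image, Set.mem_range, Set.mem_ofPred_eq]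
    constructor
    · rintro ⟨_, ⟨i, rfl⟩, rfl⟩
      refine ⟨FreeGroup.of (Fin.castSucc i), ?_, ?_⟩
      · revert i; decide +kernel
      · rw [show (PresentedGroup.of i : HXY) = PresentedGroup.mk _ (FreeGroup.of i) from rfl, hψ,
          FreeGroup.map.of]
    · rintro ⟨w, hw, rfl⟩
      simp only [C352.subWords, List.mem_cons, List.not_mem_nil, or_false] at hw
      rcases hw with rfl | rfl
      · exact ⟨_, ⟨0, rfl⟩, by
          rw [show (PresentedGroup.of 0 : HXY) = PresentedGroup.mk _ (FreeGroup.of 0) from rfl, hψ,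
            FreeGroup.map.of]; rfl⟩
      · exact ⟨_, ⟨1, rfl⟩, by
          rw [show (PresentedGroup.of 1 : HXY) = PresentedGroup.mk _ (FreeGroup.of 1) from rfl, hψ,
            FreeGroup.map.of]; rfl⟩
  have hd := (Subgroup.card_range_dvd ψ).trans card_HXY_dvd
  rw [hr] at hd
  rw [← Subgroup.card_mul_index (Data.sub (wordRels C352.relWords) C352.subWords), C352.index_val]
  calc _ ∣ 756000 * 352 := mul_dvd_mul_right hd _
    _ = 266112000 := by norm_num

theorem finite_Pb : Finite Pb :=
  Nat.finite_of_card_ne_zero fun h => by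
    have := card_Pb_dvd
    rw [h] at this
    norm_num at this

end Cfsg.Agent.HNSub
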