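import Mathlib
import Cfsg.Agent.CosetCert.Basic

/-!
# Packed matrices modulo 41

A row is one number with fields of 40 bits; products are reduced field by field.
-/

set_option autoImplicit false
set_option maxRecDepth 100000

namespace Cfsg.Agent.HNSub

open Cfsg.Agent.CosetCert

/-- A field. -/
def fieldN (r i : Nat) : Nat := r / 1099511627776 ^ i % 1099511627776

/-- Twenty-eight rows. -/
structure Blk where
  r0 : Nat
  r1 : Nat
  r2 : Nat
  r3 : Nat
  r4 : Nat
  r5 : Nat
  r6 : Nat
  r7 : Nat
  r8 : Nat
  r9 : Nat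
  r10 : Nat
  r11 : Nat
  r12 : Nat
  r13 : Nat
  r14 : Nat
  r15 : Nat
  r16 : Nat
  r17 : Nat
  r18 : Nat
  r19 : Nat
  r20 : Nat
  r21 : Nat
  r22 : Nat
  r23 : Nat
  r24 : Nat
  r25 : Nat
  r26 : Nat
  r27 : Nat

/-- The rows of a block. -/
def Blk.rows (b : Blk) : List Nat :=
  [b.r0, b.r1, b.r2, b.r3, b.r4, b.r5, b.r6, b.r7, b.r8, b.r9, b.r10, b.r11, b.r12, b.r13, b.r14, b.r15, b.r16, b.r17, b.r18, b.r19, b.r20, b.r21, b.r22, b.r23, b.r24, b.r25, b.r26, b.r27]

/-- All rows of a matrix stored by blocks. -/
def flat (B : List Blk) : List Nat := B.flatMap Blk.rows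

/-- The first `n` rows of a matrix stored by blocks. -/
def rowsOf (n : Nat) (B : List Blk) : List Nat := (flat B).take n

/-- Adding the multiples of the rows given by the fields of `v`, which are below 64. -/
noncomputable def comb (B : List Blk) (v : Nat) : Nat :=
  List.rec (motive := fun _ => Nat → Nat) (fun _ => 0)
    (fun b _ ih v => Blk.rec (motive := fun _ => Nat) (fun r0 r1 r2 r3 r4 r5 r6 r7 r8 r9 r10 r11 r12 r13 r14 r15 r16 r17 r18 r19 r20 r21 r22 r23 r24 r25 r26 r27 =>
        force (ih (Nat.shiftRight v 1120)) fun a => Nat.add (Nat.add (Nat.add (Nat.add (Nat.add (Nat.add (Nat.add (Nat.add (Nat.add (Nat.add (Nat.add (Nat.add (Nat.add (Nat.add (Nat.add (Nat.add (Nat.add (Nat.add (Nat.add (Nat.add (Nat.add (Nat.add (Nat.add (Nat.add (Nat.add (Nat.add (Nat.add (Nat.add (a)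
          (Nat.mul (Nat.land (Nat.shiftRight v 0) 63) r0))
          (Nat.mul (Nat.land (Nat.shiftRight v 40) 63) r1))
          (Nat.mul (Nat.land (Nat.shiftRight v 80) 63) r2))
          (Nat.mul (Nat.land (Nat.shiftRight v 120) 63) r3))
          (Nat.mul (Nat.land (Nat.shiftRight v 160) 63) r4))
          (Nat.mul (Nat.land (Nat.shiftRight v 200) 63) r5))
          (Nat.mul (Nat.land (Nat.shiftRight v 240) 63) r6))
          (Nat.mul (Nat.land (Nat.shiftRight v 280) 63) r7))
          (Nat.mul (Nat.land (Nat.shiftRight v 320) 63) r8))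
          (Nat.mul (Nat.land (Nat.shiftRight v 360) 63) r9))
          (Nat.mul (Nat.land (Nat.shiftRight v 400) 63) r10))
          (Nat.mul (Nat.land (Nat.shiftRight v 440) 63) r11))
          (Nat.mul (Nat.land (Nat.shiftRight v 480) 63) r12))
          (Nat.mul (Nat.land (Nat.shiftRight v 520) 63) r13))
          (Nat.mul (Nat.land (Nat.shiftRight v 560) 63) r14))
          (Nat.mul (Nat.land (Nat.shiftRight v 600) 63) r15))
          (Nat.mul (Nat.land (Nat.shiftRight v 640) 63) r16))
          (Nat.mul (Nat.land (Nat.shiftRight v 680) 63) r17))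
          (Nat.mul (Nat.land (Nat.shiftRight v 720) 63) r18))
          (Nat.mul (Nat.land (Nat.shiftRight v 760) 63) r19))
          (Nat.mul (Nat.land (Nat.shiftRight v 800) 63) r20))
          (Nat.mul (Nat.land (Nat.shiftRight v 840) 63) r21))
          (Nat.mul (Nat.land (Nat.shiftRight v 880) 63) r22))
          (Nat.mul (Nat.land (Nat.shiftRight v 920) 63) r23))
          (Nat.mul (Nat.land (Nat.shiftRight v 960) 63) r24))
          (Nat.mul (Nat.land (Nat.shiftRight v 1000) 63) r25))
          (Nat.mul (Nat.land (Nat.shiftRight v 1040) 63) r26))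
          (Nat.mul (Nat.land (Nat.shiftRight v 1080) 63) r27)) b)
    B v

/-- Sixteen low bits in each of `k` fields. -/
def maskF : Nat → Nat
  | 0 => 0
  | k + 1 => 65535 + 1099511627776 * maskF k

/-- Reducing every field below 262144, given the mask. -/
noncomputable def red (msk a : Nat) : Nat :=
  Nat.sub a (Nat.mul 41 (Nat.land (Nat.shiftRight (Nat.mul a 409201) 24) msk))

/-- The product, computed completely before it is used. -/
noncomputable def mulK {α : Type} (msk : Nat) (A : List Nat) (B : List Blk) (k : List Nat → α) : α :=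
  List.rec (motive := fun _ => (List Nat → α) → α) (fun k => k [])
    (fun r _ ih k => force (red msk (comb B r)) fun x => ih fun l => k (x :: l)) A k

/-- Equality of lists. -/
noncomputable def eqB (A B : List Nat) : Bool :=
  List.rec (motive := fun _ => List Nat → Bool) (fun B => B.isEmpty)
    (fun r _ ih B => Nat.beq (B.headD 0) r && (!B.isEmpty && ih B.tail)) A B


/-- Packing a function. -/
def pk : Nat → (Nat → Nat) → Nat
  | 0, _ => 0
  | k + 1, f => f 0 + 1099511627776 * pk k fun i => f (i + 1)

theorem pk_add : ∀ (k : Nat) (f g : Nat → Nat), pk k f + pk k g = pk k fun i => f i + g i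
  | 0, _, _ => rfl
  | k + 1, f, g => by simp only [pk, ← pk_add k]; ring

theorem pk_mul : ∀ (k c : Nat) (f : Nat → Nat), c * pk k f = pk k fun i => c * f i
  | 0, _, _ => by simp [pk]
  | k + 1, c, f => by simp only [pk, ← pk_mul k]; ring

theorem pk_zero : ∀ k : Nat, pk k (fun _ => 0) = 0
  | 0 => rfl
  | k + 1 => by simp [pk, pk_zero k]

theorem pk_congr : ∀ (k : Nat) {f g : Nat → Nat}, (∀ i < k, f i = g i) → pk k f = pk k g
  | 0, _, _, _ => rfl
  | k + 1, _, _, h => by
    simp only [pk]
    rw [h 0 (by omega), pk_congr k fun i hi => h (i + 1) (by omega)]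

theorem pk_sum (k : Nat) (f : Nat → Nat → Nat) : ∀ n : Nat,
    ∑ l ∈ Finset.range n, pk k (f l) = pk k fun i => ∑ l ∈ Finset.range n, f l i
  | 0 => by simp [pk_zero]
  | n + 1 => by simp only [Finset.sum_range_succ, pk_sum k f n, pk_add]

theorem field_succ (a i : Nat) : fieldN a (i + 1) = fieldN (a / 1099511627776) i := by
  rw [fieldN, fieldN, pow_succ', Nat.div_div_eq_div_mul]

theorem field_pk : ∀ (k : Nat) (f : Nat → Nat), (∀ i < k, f i < 1099511627776) →
    ∀ i < k, fieldN (pk k f) i = f i
  | 0, _, _, i, hi => absurd hi (Nat.not_lt_zero i)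
  | k + 1, f, h, 0, _ => by
    have := h 0 (by omega)
    simp only [fieldN, pk, pow_zero, Nat.div_one]
    omega
  | k + 1, f, h, i + 1, hi => by
    have h0 := h 0 (by omega)
    rw [field_succ, pk, show (f 0 + 1099511627776 * pk k fun i => f (i + 1)) / 1099511627776 =
      pk k fun i => f (i + 1) by omega]
    exact field_pk k _ (fun j hj => h _ (by omega)) i (by omega)

theorem pk_field : ∀ (k a : Nat), a < 1099511627776 ^ k → pk k (fieldN a) = a
  | 0, a, h => by simp [pk] at h ⊢; omega
  | k + 1, a, h => by
    have ha : a / 1099511627776 < 1099511627776 ^ k := by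
      rw [Nat.div_lt_iff_lt_mul (by norm_num), ← pow_succ]
      exact h
    simp only [pk, field_succ, pk_field k _ ha]
    simp only [fieldN, pow_zero, Nat.div_one]
    omega

theorem pk_lt : ∀ (k : Nat) (f : Nat → Nat), (∀ i < k, f i < 1099511627776) → pk k f < 1099511627776 ^ k
  | 0, _, _ => by simp [pk]
  | k + 1, f, h => by
    have h0 := h 0 (by omega)
    have ih := pk_lt k (fun i => f (i + 1)) fun i hi => h _ (by omega)
    simp only [pk]
    rw [pow_succ']
    omega

theorem land_mask : ∀ (k : Nat) (g : Nat → Nat), (∀ i < k, g i < 1099511627776) →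
    Nat.land (Nat.shiftRight (pk k g) 24) (maskF k) = pk k fun i => g i / 16777216
  | 0, _, _ => by simp [pk, maskF]
  | k + 1, g, h => by
    have h0 := h 0 (by omega)
    have ih := land_mask k (fun i => g (i + 1)) fun i hi => h _ (by omega)
    change (pk k (fun i => g (i + 1)) >>> 24) &&& maskF k = _ at ih
    show (pk (k + 1) g >>> 24) &&& maskF (k + 1) = _
    rw [Nat.shiftRight_eq_div_pow] at ih ⊢
    simp only [pk, maskF]
    generalize pk k (fun i => g (i + 1)) = P at ih ⊢
    rw [← ih]
    generalize maskF k = m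
    norm_num
    generalize hx : (g 0 + 1099511627776 * P) / 16777216 = x
    have e1 : (x &&& (65535 + 1099511627776 * m)) % 2 ^ 40 = g 0 / 16777216 := by
      rw [Nat.and_mod_two_pow, show (65535 + 1099511627776 * m) % 2 ^ 40 = 2 ^ 16 - 1 by omega,
        Nat.and_two_pow_sub_one_eq_mod]
      omega
    have e2 : (x &&& (65535 + 1099511627776 * m)) / 2 ^ 40 = P / 16777216 &&& m := by
      rw [Nat.and_div_two_pow, show (65535 + 1099511627776 * m) / 2 ^ 40 = m by omega,
        show x / 2 ^ 40 = P / 16777216 by omega]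
    omega

theorem red_pk (n : Nat) (f : Nat → Nat) (h : ∀ i < n, f i < 262144) :
    red (maskF n) (pk n f) = pk n fun i => f i % 41 := by
  have e1 : Nat.mul (pk n f) 409201 = pk n fun i => 409201 * f i := by
    rw [← pk_mul]; exact Nat.mul_comm _ _
  rw [red, e1, land_mask n _ fun i hi => by have := h i hi; omega]
  show pk n f - 41 * pk n _ = _
  rw [pk_mul]
  have e2 : pk n f = pk n (fun i => f i % 41) + pk n fun i => 41 * (409201 * f i / 16777216) := by
    rw [pk_add]
    refine pk_congr n fun i hi => ?_
    have := h i hi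
    have hb : f i % 41 ≤ 40 := by omega
    omega
  omega

attribute [local irreducible] pk maskF

/-- A good matrix: `n` rows of `n` reduced fields. -/
def Good (n : Nat) (A : List Nat) : Prop :=
  A.length = n ∧ ∀ r ∈ A, ∃ f : Nat → Nat, (∀ j, f j < 41) ∧ r = pk n f

/-- The check of a good matrix. -/
noncomputable def goodC (n : Nat) (A : List Nat) : Bool :=
  Nat.beq A.length n && A.all fun r => Nat.blt r (1099511627776 ^ n) &&
    allFrom (fun j => Nat.blt (fieldN r j) 41) 0 n

theorem good_of_check {n : Nat} {A : List Nat} (h : goodC n A = true) : Good n A := by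
  simp only [goodC, Bool.and_eq_true, List.all_eq_true, Nat.blt_eq] at h
  refine ⟨Nat.eq_of_beq_eq_true h.1, fun r hr => ⟨fun j => if j < n then fieldN r j else 0,
    fun j => ?_, ?_⟩⟩
  · show (if j < n then fieldN r j else 0) < 41
    split
    · exact Nat.blt_eq.mp ((allFrom_iff _ _ _).1 (h.2 r hr).2 j (Nat.zero_le _) (by omega))
    · norm_num
  · conv_lhs => rw [← pk_field n r (h.2 r hr).1]
    exact pk_congr n fun j hj => by rw [if_pos hj]

/-- The matrix of a list of rows. -/
def toMat (n : Nat) (A : List Nat) : Matrix (Fin n) (Fin n) (ZMod 41) :=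
  Matrix.of fun i j => ((fieldN (A.getD i 0) j : ℕ) : ZMod 41)

theorem field_shift (v l : Nat) : fieldN (Nat.shiftRight v 1120) l = fieldN v (28 + l) := by
  show fieldN (v >>> 1120) l = _
  rw [fieldN, fieldN, Nat.shiftRight_eq_div_pow, Nat.div_div_eq_div_mul,
    show (2 : Nat) ^ 1120 = 1099511627776 ^ 28 by rw [show (1099511627776 : Nat) = 2 ^ 40 by norm_num, ← pow_mul],
    ← pow_add]

theorem field_low (v i : Nat) (h : fieldN v i < 64) :
    Nat.land (Nat.shiftRight v (40 * i)) 63 = fieldN v i := by
  show (v >>> (40 * i)) &&& 63 = _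
  rw [Nat.shiftRight_eq_div_pow, show (2 : Nat) ^ (40 * i) = 1099511627776 ^ i by
      rw [show (1099511627776 : Nat) = 2 ^ 40 by norm_num, ← pow_mul],
    show (63 : Nat) = 2 ^ 6 - 1 by norm_num, Nat.and_two_pow_sub_one_eq_mod]
  rw [fieldN] at h ⊢
  have := Nat.mod_add_div (v / 1099511627776 ^ i) 1099511627776
  omega

theorem rows_length (b : Blk) : b.rows.length = 28 := rfl

theorem comb_eq : ∀ (B : List Blk) (v : Nat), (∀ l, fieldN v l < 64) →
    comb B v = ∑ l ∈ Finset.range (flat B).length, fieldN v l * (flat B).getD l 0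
  | [], _, _ => by simp [comb, flat]
  | b :: B, v, h => by
    have hlen : (flat (b :: B)).length = 28 + (flat B).length := by simp [flat, rows_length]
    have hflat : ∀ l, (flat (b :: B)).getD (28 + l) 0 = (flat B).getD l 0 := fun l => by
      simp only [flat, List.flatMap_cons]
      rw [List.getD_append_right _ _ _ _ (by rw [rows_length]; omega), rows_length,
        show 28 + l - 28 = l by omega]
    have hb : ∀ l < 28, (flat (b :: B)).getD l 0 = b.rows.getD l 0 := fun l hl => by
      simp only [flat, List.flatMap_cons]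
      rw [List.getD_append _ _ _ _ (by rw [rows_length]; omega)]
    have hlow : ∑ l ∈ Finset.range 28, fieldN v l * (flat (b :: B)).getD l 0 =
        ∑ l ∈ Finset.range 28, Nat.land (Nat.shiftRight v (40 * l)) 63 * b.rows.getD l 0 :=
      Finset.sum_congr rfl fun l hl => by rw [field_low v l (h l), hb l (Finset.mem_range.1 hl)]
    have ih := comb_eq B (Nat.shiftRight v 1120) fun l => by rw [field_shift]; exact h _
    rw [hlen, Finset.sum_range_add, hlow,
      show (∑ x ∈ Finset.range (flat B).length, fieldN v (28 + x) * (flat (b :: B)).getD (28 + x) 0) =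
        comb B (Nat.shiftRight v 1120) by
          rw [ih]; exact Finset.sum_congr rfl fun l _ => by rw [field_shift, hflat]]
    obtain ⟨r0, r1, r2, r3, r4, r5, r6, r7, r8, r9, r10, r11, r12, r13, r14, r15, r16, r17, r18, r19, r20, r21, r22, r23, r24, r25, r26, r27⟩ := b
    have hc : comb (⟨r0, r1, r2, r3, r4, r5, r6, r7, r8, r9, r10, r11, r12, r13, r14, r15, r16, r17, r18, r19, r20, r21, r22, r23, r24, r25, r26, r27⟩ :: B) v = force (comb B (Nat.shiftRight v 1120)) (fun a => Nat.add (Nat.add (Nat.add (Nat.add (Nat.add (Nat.add (Nat.add (Nat.add (Nat.add (Nat.add (Nat.add (Nat.add (Nat.add (Nat.add (Nat.add (Nat.add (Nat.add (Nat.add (Nat.add (Nat.add (Nat.add (Nat.add (Nat.add (Nat.add (Nat.add (Nat.add (Nat.add (Nat.add (a)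
          (Nat.mul (Nat.land (Nat.shiftRight v 0) 63) r0))
          (Nat.mul (Nat.land (Nat.shiftRight v 40) 63) r1))
          (Nat.mul (Nat.land (Nat.shiftRight v 80) 63) r2))
          (Nat.mul (Nat.land (Nat.shiftRight v 120) 63) r3))
          (Nat.mul (Nat.land (Nat.shiftRight v 160) 63) r4))
          (Nat.mul (Nat.land (Nat.shiftRight v 200) 63) r5))
          (Nat.mul (Nat.land (Nat.shiftRight v 240) 63) r6))
          (Nat.mul (Nat.land (Nat.shiftRight v 280) 63) r7))
          (Nat.mul (Nat.land (Nat.shiftRight v 320) 63) r8))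
          (Nat.mul (Nat.land (Nat.shiftRight v 360) 63) r9))
          (Nat.mul (Nat.land (Nat.shiftRight v 400) 63) r10))
          (Nat.mul (Nat.land (Nat.shiftRight v 440) 63) r11))
          (Nat.mul (Nat.land (Nat.shiftRight v 480) 63) r12))
          (Nat.mul (Nat.land (Nat.shiftRight v 520) 63) r13))
          (Nat.mul (Nat.land (Nat.shiftRight v 560) 63) r14))
          (Nat.mul (Nat.land (Nat.shiftRight v 600) 63) r15))
          (Nat.mul (Nat.land (Nat.shiftRight v 640) 63) r16))
          (Nat.mul (Nat.land (Nat.shiftRight v 680) 63) r17))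
          (Nat.mul (Nat.land (Nat.shiftRight v 720) 63) r18))
          (Nat.mul (Nat.land (Nat.shiftRight v 760) 63) r19))
          (Nat.mul (Nat.land (Nat.shiftRight v 800) 63) r20))
          (Nat.mul (Nat.land (Nat.shiftRight v 840) 63) r21))
          (Nat.mul (Nat.land (Nat.shiftRight v 880) 63) r22))
          (Nat.mul (Nat.land (Nat.shiftRight v 920) 63) r23))
          (Nat.mul (Nat.land (Nat.shiftRight v 960) 63) r24))
          (Nat.mul (Nat.land (Nat.shiftRight v 1000) 63) r25))
          (Nat.mul (Nat.land (Nat.shiftRight v 1040) 63) r26))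
          (Nat.mul (Nat.land (Nat.shiftRight v 1080) 63) r27)) := rfl
    rw [hc, force_eq]
    generalize comb B (Nat.shiftRight v 1120) = a
    simp only [Finset.sum_range_succ, Finset.sum_range_zero, Blk.rows, List.getD_cons_succ,
      List.getD_cons_zero, Nat.add_eq, Nat.mul_eq, Nat.reduceMul, Nat.zero_add]
    ring

theorem mulK_eq {α : Type} (msk : Nat) : ∀ (A : List Nat) (B : List Blk) (k : List Nat → α),
    mulK msk A B k = k (A.map fun r => red msk (comb B r))
  | [], _, _ => rfl
  | r :: A, B, k => by
    show force (red msk (comb B r)) (fun x => mulK msk A B fun l => k (x :: l)) = _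
    rw [force_eq, mulK_eq msk A B]
    rfl

theorem mul_spec {n : Nat} (hn : n ≤ 160) {A : List Nat} {B : List Blk} (hA : Good n A)
    (hB : Good n (rowsOf n B)) :
    Good n (A.map fun r => red (maskF n) (comb B r)) ∧
      toMat n (A.map fun r => red (maskF n) (comb B r)) = toMat n A * toMat n (rowsOf n B) := by
  obtain ⟨hAl, hA⟩ := hA
  obtain ⟨hBl, hB⟩ := hB
  have hlen : n ≤ (flat B).length := by
    rw [rowsOf, List.length_take] at hBl
    omega
  have hBf : ∀ l, l < n → ∃ f : Nat → Nat, (∀ j, f j < 41) ∧ (rowsOf n B).getD l 0 = pk n f := by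
    intro l hl
    rw [List.getD_eq_getElem _ _ (hBl.symm ▸ hl)]
    exact hB _ (List.getElem_mem _)
  choose F hF7 hFeq using hBf
  have hrow : ∀ l, l < n → (flat B).getD l 0 = (rowsOf n B).getD l 0 := by
    intro l hl
    rw [rowsOf, List.getD_eq_getElem _ _ (lt_of_lt_of_le hl hlen),
      List.getD_eq_getElem _ _ (by rw [List.length_take]; omega), List.getElem_take]
  let F' : Nat → Nat → Nat := fun l j => if h : l < n then F l h j else 0
  have hF' : ∀ l j, F' l j ≤ 40 := by
    intro l j
    simp only [F']
    split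
    · have := hF7 l ‹_› j
      omega
    · omega
  have key : ∀ r ∈ A, red (maskF n) (comb B r) =
      pk n (fun j => (∑ l ∈ Finset.range n, fieldN r l * F' l j) % 41) := by
    intro r hr
    obtain ⟨f, hf, hfr⟩ := hA r hr
    rw [hfr]
    have hzero : ∀ l, n ≤ l → fieldN (pk n f) l = 0 := by
      intro l hl
      have hb := pk_lt n f fun i _ => (hf i).trans (by norm_num)
      rw [fieldN, Nat.div_eq_of_lt (lt_of_lt_of_le hb (Nat.pow_le_pow_right (by norm_num) hl)),
        Nat.zero_mod]
    have h8 : ∀ l, fieldN (pk n f) l < 64 := by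
      intro l
      rcases Nat.lt_or_ge l n with h | h
      · rw [field_pk n f (fun i _ => (hf i).trans (by norm_num)) l h]
        exact (hf l).trans (by norm_num)
      · rw [hzero l h]; norm_num
    have e : comb B (pk n f) = pk n (fun j => ∑ l ∈ Finset.range n, fieldN (pk n f) l * F' l j) := by
      rw [comb_eq B _ h8, ← pk_sum, show (flat B).length = n + ((flat B).length - n) by omega,
        Finset.sum_range_add]
      rw [show (∑ x ∈ Finset.range ((flat B).length - n),
          fieldN (pk n f) (n + x) * (flat B).getD (n + x) 0) = 0 from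
        Finset.sum_eq_zero fun x _ => by rw [hzero _ (by omega), Nat.zero_mul], Nat.add_zero]
      refine Finset.sum_congr rfl fun l hl => ?_
      have hl' := Finset.mem_range.1 hl
      rw [← pk_mul, hrow l hl', hFeq l hl']
      congr 1
      exact pk_congr n fun j _ => by simp [F', hl']
    rw [e, red_pk]
    intro j _
    calc (∑ l ∈ Finset.range n, fieldN (pk n f) l * F' l j) ≤ ∑ l ∈ Finset.range n, 1600 := by
          refine Finset.sum_le_sum fun l hl => ?_
          rw [field_pk n f (fun i _ => (hf i).trans (by norm_num)) l (Finset.mem_range.1 hl)]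
          have h1 := hf l
          calc f l * F' l j ≤ 40 * 40 := Nat.mul_le_mul (by omega) (hF' l j)
            _ = 1600 := by norm_num
      _ < 262144 := by simp; omega
  refine ⟨⟨by simpa using hAl, fun x hx => ?_⟩, ?_⟩
  · obtain ⟨r, hr, rfl⟩ := List.mem_map.1 hx
    exact ⟨_, fun j => Nat.mod_lt _ (by norm_num), key r hr⟩
  ext i j
  have hi : (i : Nat) < A.length := hAl.symm ▸ i.2
  rw [Matrix.mul_apply]
  simp only [toMat, Matrix.of_apply]
  rw [List.getD_eq_getElem _ _ (by simpa using hi), List.getElem_map, key _ (List.getElem_mem _),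
    field_pk n _ (fun l _ => (Nat.mod_lt _ (by norm_num)).trans (by norm_num)) j j.2,
    ZMod.natCast_mod, Nat.cast_sum, Finset.sum_range]
  refine Finset.sum_congr rfl fun l _ => ?_
  rw [Nat.cast_mul, List.getD_eq_getElem _ _ hi]
  congr 1
  rw [hFeq l l.2, field_pk n _ (fun m _ => (hF7 l l.2 m).trans (by norm_num)) j j.2]
  simp [F', l.2]

/-- The identity, with `n` rows. -/
def idM (n : Nat) : List Nat := (List.range n).map fun i => 1099511627776 ^ i

theorem eqB_eq : ∀ {A B : List Nat}, eqB A B = true → A = B
  | [], [], _ => rfl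
  | [], _ :: _, h => absurd h (by simp [eqB])
  | r :: A, [], h => absurd h (by simp [eqB])
  | r :: A, s :: B, h => by
    have h' : (Nat.beq s r && eqB A B) = true := by simpa [eqB] using h
    rw [Bool.and_eq_true] at h'
    rw [Nat.eq_of_beq_eq_true h'.1, eqB_eq h'.2]

/-- A row multiplied by the matrices of a word. -/
noncomputable def rowW (msk : Nat) (G : Nat → List Blk) (w : List Nat) (v : Nat) : Nat :=
  List.rec (motive := fun _ => Nat → Nat) (fun v => v)
    (fun x _ ih v => force (red msk (comb (G x) v)) ih) w v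

/-- The product over a word is `T`. -/
noncomputable def relB (msk : Nat) (G : Nat → List Blk) (I T w : List Nat) : Bool :=
  List.rec (motive := fun _ => List Nat → Bool) (fun T => T.isEmpty)
    (fun r _ ih T => force (rowW msk G w r) fun v =>
      gate (Nat.beq (T.headD 0) v) (gate (!T.isEmpty) (ih T.tail))) I T

theorem rowW_cons (msk : Nat) (G : Nat → List Blk) (x : Nat) (w : List Nat) (v : Nat) :
    rowW msk G (x :: w) v = rowW msk G w (red msk (comb (G x) v)) := by
  show force (red msk (comb (G x) v)) (fun u => rowW msk G w u) = _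
  rw [force_eq]

theorem relB_eq (msk : Nat) (G : Nat → List Blk) (w : List Nat) : ∀ {I T : List Nat},
    relB msk G I T w = true → I.map (rowW msk G w) = T
  | [], [], _ => rfl
  | [], _ :: _, h => absurd h (by simp [relB])
  | r :: I, [], h => absurd h (by simp [relB])
  | r :: I, s :: T, h => by
    have h' : (Nat.beq s (rowW msk G w r) && relB msk G I T w) = true := by simpa [relB] using h
    rw [Bool.and_eq_true] at h'
    rw [List.map_cons, relB_eq msk G w h'.2, Nat.eq_of_beq_eq_true h'.1]

theorem rowW_spec {n : Nat} (hn : n ≤ 160) (G : Nat → List Blk)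
    (hG : ∀ x, Good n (rowsOf n (G x))) : ∀ (w P : List Nat), Good n P →
    toMat n (P.map (rowW (maskF n) G w)) =
      toMat n P * (w.map fun x => toMat n (rowsOf n (G x))).prod
  | [], P, _ => by
    simp only [List.map_nil, List.prod_nil, mul_one]
    rw [show rowW (maskF n) G [] = id from rfl, List.map_id]
  | x :: w, P, h => by
    obtain ⟨h1, h2⟩ := mul_spec hn h (hG x)
    have := rowW_spec hn G hG w _ h1
    rw [List.map_map] at this
    rw [show rowW (maskF n) G (x :: w) =
        rowW (maskF n) G w ∘ fun r => red (maskF n) (comb (G x) r) from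
      funext fun r => rowW_cons _ _ _ _ _, this, h2, List.map_cons, List.prod_cons, mul_assoc]

theorem relB_spec {n msk : Nat} (hn : n ≤ 160) (hm : msk = maskF n) {G : Nat → List Blk}
    (hG : ∀ x, Good n (rowsOf n (G x))) {A T w : List Nat} (hA : Good n A)
    (h : relB msk G A T w = true) :
    toMat n A * (w.map fun x => toMat n (rowsOf n (G x))).prod = toMat n T := by
  subst hm
  rw [← rowW_spec hn G hG w A hA, relB_eq _ _ _ h]

end Cfsg.Agent.HNSub
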