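import Cfsg.Agent.HNSub.ChainData

/-!
# The extension of the Higman–Sims group on 100 points

The three permutations generate a group of order 88704000 with an odd element.
-/

set_option autoImplicit false
set_option maxRecDepth 100000

namespace Cfsg.Agent.HNSub

open Cfsg.Agent.Compute

/-- Packed permutations of 100 points. -/
noncomputable abbrev rep100 : Rep (Equiv.Perm (Fin 100)) (Fin 100) :=
  permRep 7 100 (Equiv.refl _) (by norm_num) (by norm_num)

/-- The permutation of a generator. -/
noncomputable def perm100 (b : Fin 3) : Equiv.Perm (Fin 100) :=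
  rep100.den (genCodes.getD b.val rep100.one)

theorem chain_ok : rep100.checkChain chain100 = true := by decide +kernel

theorem chain_size : chainSize chain100 = 88704000 := by decide +kernel

theorem span_ok {c : Nat} (hc : c ∈ genCodes) : rep100.Ok c := by
  have h : genCodes.all rep100.okb = true := by decide +kernel
  exact rep100.okb_sound _ (List.all_eq_true.1 h c hc)

theorem inv_codes : ∀ b : Fin 3, rep100.okb (genInvCodes.getD b.val rep100.one) = true ∧
    rep100.mul (genInvCodes.getD b.val rep100.one) (genCodes.getD b.val rep100.one) = rep100.one := by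
  decide +kernel

theorem gen_ok (b : Fin 3) : rep100.Ok (genCodes.getD b.val rep100.one) := by
  have h : ∀ b : Fin 3, rep100.okb (genCodes.getD b.val rep100.one) = true := by decide +kernel
  exact rep100.okb_sound _ (h b)

theorem den_inv (b : Fin 3) : rep100.den (genInvCodes.getD b.val rep100.one) = (perm100 b)⁻¹ := by
  obtain ⟨h1, h2⟩ := inv_codes b
  refine eq_inv_of_mul_eq_one_left ?_
  rw [perm100, ← rep100.den_mul _ _ (rep100.okb_sound _ h1) (gen_ok b), h2, rep100.den_one]

/-- The code of a letter. -/
noncomputable def letterCode (a : Fin 3 × Bool) : Nat :=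
  cond a.2 (genCodes.getD a.1.val rep100.one) (genInvCodes.getD a.1.val rep100.one)

/-- The code of a word. -/
noncomputable def wordCode : List (Fin 3 × Bool) → Nat
  | [] => rep100.one
  | a :: w => rep100.mul (letterCode a) (wordCode w)

theorem letterCode_ok (a : Fin 3 × Bool) : rep100.Ok (letterCode a) := by
  obtain ⟨b, e⟩ := a
  cases e
  · exact rep100.okb_sound _ (inv_codes b).1
  · exact gen_ok b

theorem wordCode_spec : ∀ w : List (Fin 3 × Bool), rep100.Ok (wordCode w) ∧
    rep100.den (wordCode w) = FreeGroup.lift perm100 (FreeGroup.mk w)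
  | [] => ⟨rep100.ok_one, by rw [wordCode, rep100.den_one, ← FreeGroup.one_eq_mk, map_one]⟩
  | (b, e) :: w => by
    obtain ⟨h1, h2⟩ := wordCode_spec w
    refine ⟨rep100.ok_mul _ _ (letterCode_ok _) h1, ?_⟩
    rw [wordCode, rep100.den_mul _ _ (letterCode_ok _) h1, h2,
      show (b, e) :: w = [(b, e)] ++ w from rfl, ← FreeGroup.mul_mk, map_mul]
    congr 1
    cases e
    · simp only [letterCode, cond_false, den_inv]
      simp [FreeGroup.lift_mk]
    · simp [letterCode, FreeGroup.lift_mk, perm100]

theorem lift_one_of_code {w : List (Fin 3 × Bool)} (h : wordCode w = rep100.one) :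
    FreeGroup.lift perm100 (FreeGroup.mk w) = 1 := by
  rw [← (wordCode_spec w).2, h, rep100.den_one]

/-- The generated group. -/
noncomputable def grp100 : Subgroup (Equiv.Perm (Fin 100)) :=
  Subgroup.closure (Set.range perm100)

/-- The values of the program. -/
noncomputable def slpVals : List Nat := genCodes ++ genInvCodes ++ slp100.map fun e => e.2.2

/-- One step of the program. -/
noncomputable def slpStep (k : Nat) : Bool :=
  let e := slp100.getD k (0, 0, rep100.one)
  Nat.blt e.1 (6 + k) && Nat.blt e.2.1 (6 + k) &&
    rep100.okb (slpVals.getD e.1 rep100.one) && rep100.okb (slpVals.getD e.2.1 rep100.one) &&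
    Nat.beq (slpVals.getD (6 + k) rep100.one)
      (rep100.mul (slpVals.getD e.1 rep100.one) (slpVals.getD e.2.1 rep100.one))

theorem slp_ok : ∀ k, k < slp100.length → slpStep k = true := by decide +kernel

theorem slp_mem : ∀ k, rep100.den (slpVals.getD k rep100.one) ∈ grp100 := by
  intro k
  induction k using Nat.strong_induction_on with
  | _ k ih =>
    by_cases h6 : k < 6
    · have hb : ∀ b : Fin 3, perm100 b ∈ grp100 := fun b => Subgroup.subset_closure ⟨b, rfl⟩
      have he : ∀ k : Fin 6, slpVals.getD k.val rep100.one =
          if k.val < 3 then genCodes.getD k.val rep100.one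
          else genInvCodes.getD (k.val - 3) rep100.one := by decide +kernel
      rw [he ⟨k, h6⟩]
      dsimp only
      split_ifs with h
      · exact hb ⟨k, h⟩
      · rw [show rep100.den (genInvCodes.getD (k - 3) rep100.one) = (perm100 ⟨k - 3, by omega⟩)⁻¹ from
          den_inv ⟨k - 3, by omega⟩]
        exact inv_mem (hb _)
    · by_cases hk : k - 6 < slp100.length
      · have h := slp_ok (k - 6) hk
        simp only [slpStep, Bool.and_eq_true, Nat.blt_eq] at h
        obtain ⟨⟨⟨⟨h1, h2⟩, h3⟩, h4⟩, h5⟩ := h
        have h5' := Nat.eq_of_beq_eq_true h5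
        rw [show 6 + (k - 6) = k by omega] at h5' h1 h2
        rw [h5', rep100.den_mul _ _ (rep100.okb_sound _ h3) (rep100.okb_sound _ h4)]
        exact mul_mem (ih _ h1) (ih _ h2)
      · have hl : slpVals.length = 6 + slp100.length := by
          simp [slpVals, genCodes, genInvCodes]; omega
        rw [List.getD_eq_default _ _ (by omega), rep100.den_one]
        exact one_mem _

theorem grp100_eq : grp100 = rep100.chainGroup chain100 := by
  apply le_antisymm
  · rw [grp100, Subgroup.closure_le]
    rintro _ ⟨b, rfl⟩
    have h : ∀ b : Fin 3, genCodes.getD b.val rep100.one ∈ topGens chain100 := by decide +kernel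
    exact rep100.den_mem_span (h b)
  · rw [Rep.chainGroup, Rep.span, Subgroup.closure_le]
    rintro _ ⟨c, hc, rfl⟩
    have h : (topGens chain100).all (fun c => slpVals.any fun v => Nat.beq c v) = true := by
      decide +kernel
    obtain ⟨v, hv, hcv⟩ := List.any_eq_true.1 (List.all_eq_true.1 h c hc)
    obtain ⟨k, hk, rfl⟩ := List.mem_iff_getElem.1 hv
    rw [Nat.eq_of_beq_eq_true hcv, ← List.getD_eq_getElem _ rep100.one hk]
    exact slp_mem k

theorem card_grp100 : Nat.card grp100 = 88704000 := by
  rw [grp100_eq, rep100.card_chainGroup chain100 chain_ok, chain_size]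

/-- The transpositions of the third generator. -/
def swapsZ : List (Fin 100 × Fin 100) :=
  [(0, 3), (1, 5), (2, 6), (4, 11), (7, 14), (8, 18), (9, 20), (12, 24), (15, 29), (16, 31), (22, 40), (23, 42), (25, 44), (33, 55), (34, 57), (36, 60), (38, 39), (45, 68), (49, 74), (50, 75), (51, 71), (52, 73), (53, 78), (56, 80), (64, 83), (66, 86), (67, 88), (70, 92), (72, 94), (76, 81), (77, 98), (84, 89), (85, 90), (87, 97), (93, 96)]

theorem sign_z : Equiv.Perm.sign (perm100 2) = -1 := by
  have h : ∀ i : Fin 100, getField 7 (genCodes.getD 2 rep100.one) i.val =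
      ((swapsZ.map fun p => Equiv.swap p.1 p.2).prod i).val := by
    decide +kernel
  have e : perm100 2 =
      (swapsZ.map fun p => Equiv.swap p.1 p.2).prod :=
    denPerm_ext (Equiv.refl _) (gen_ok 2) _ fun i => Fin.ext (h i).symm
  rw [e, Equiv.Perm.sign_prod_list_swap]
  · rw [List.length_map, show swapsZ.length = 35 from rfl]
    decide
  · intro g hg
    obtain ⟨p, hp, rfl⟩ := List.mem_map.1 hg
    refine ⟨p.1, p.2, ?_, rfl⟩
    revert p
    decide +kernel

end Cfsg.Agent.HNSub
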